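import Cfsg.Agent.Lib.PlusTen.Defs
import Cfsg.Agent.Lib.OrthAny.HalvesSwap

/-!
helper2: blocks in the centre of the commutant of a normal subgroup of a maximal subgroup of a plus type
group of dimension ten lead to decompositions into lines, planes or halves.
-/

set_option autoImplicit false
set_option linter.unusedSectionVars false
set_option maxHeartbeats 1000000

namespace Cfsg.Agent.Lib.PlusTen

open Matrix Module QuadraticMap Cfsg.Agent.Lib.MaxSub
open Cfsg.Agent.Lib.Geometry (quad_add quad_sub quad_smul quad_polar_self quad_polar_comm)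
open Cfsg.Agent.Lib.TwoPrimeDim (centre mem_centre centre_comm img mem_img_idem)
open scoped MatrixGroups Matrix

attribute [-simp] QuadraticMap.polarBilin_apply_apply

variable {F : Type*} [Field F]

local notation "MM" => Matrix (Fin 10) (Fin 10) F
local notation "VV" => (Fin 10 → F)
local notation "GG" => GL (Fin 10) F

variable {Q : QuadraticForm F (Fin 10 → F)}

/-- `Y` is the adjoint of `X`. -/
def IsAdj (Q : QuadraticForm F VV) (X Y : MM) : Prop :=
  ∀ u v : VV, polarBilin Q (X *ᵥ u) v = polarBilin Q u (Y *ᵥ v)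

theorem IsAdj.symm {X Y : MM} (h : IsAdj Q X Y) : IsAdj Q Y X := fun u v => by
  rw [quad_polar_comm, ← h, quad_polar_comm]

theorem IsAdj.mul {X Y X' Y' : MM} (h : IsAdj Q X Y) (h' : IsAdj Q X' Y') : IsAdj Q (X * X') (Y' * Y) := fun u v => by
  rw [← mulVec_mulVec, h, h', mulVec_mulVec]

theorem IsAdj.zero : IsAdj Q (0 : MM) 0 := fun u v => by simp

theorem IsAdj.unique (hN : (polarBilin Q).Nondegenerate) {X Y Y' : MM} (h : IsAdj Q X Y) (h' : IsAdj Q X Y') :
    Y = Y' := by
  refine Matrix.ext_iff_mulVec.2 fun v => sub_eq_zero.1 (hN.2 _ fun u => ?_)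
  rw [map_sub, ← h, ← h', sub_self]

theorem isAdj_of_isometry {g : GG} (hg : g ∈ Cfsg.isometryGroup F (Q : VV → F)) : IsAdj Q (g : MM) ((g⁻¹ : GG) : MM) :=
  fun u v => by
    conv_lhs => rw [show v = (g : MM) *ᵥ (((g⁻¹ : GG) : MM) *ᵥ v) by simp [mulVec_mulVec, -Matrix.coe_units_inv]]
    rw [Orth.iso_polar hg]

theorem IsAdj.add' {X Y X' Y' : MM} (h : IsAdj Q X Y) (h' : IsAdj Q X' Y') : IsAdj Q (X + X') (Y + Y') := fun u v => by
  rw [add_mulVec, add_mulVec, map_add, LinearMap.add_apply, map_add, h, h']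

theorem exists_isAdj (hN : (polarBilin Q).Nondegenerate) (X : MM) : ∃ Y : MM, IsAdj Q X Y := by
  let L : VV →ₗ[F] VV :=
    (LinearMap.BilinForm.toDual (polarBilin Q) hN).symm.toLinearMap ∘ₗ
      ((polarBilin Q).comp (Matrix.toLin' X)).flip
  refine ⟨LinearMap.toMatrix' L, fun u v => ?_⟩
  rw [← Matrix.toLin'_apply (LinearMap.toMatrix' L), Matrix.toLin'_toMatrix', quad_polar_comm Q u]
  show _ = polarBilin Q (L v) u
  rw [← LinearMap.BilinForm.toDual_def (B := polarBilin Q) hN]
  simp [L, LinearMap.BilinForm.toDual_def]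

theorem adj_mem_centre (hN : (polarBilin Q).Nondegenerate) {N : Subgroup GG}
    (hiso : N ≤ Cfsg.isometryGroup F (Q : VV → F)) {X Y : MM} (hX : X ∈ centre N) (hY : IsAdj Q X Y) :
    Y ∈ centre N := by
  have hcomm : ∀ {X Y : MM}, IsAdj Q X Y → (∀ g ∈ N, (g : MM) * X = X * (g : MM)) →
      ∀ g ∈ N, (g : MM) * Y = Y * (g : MM) := by
    intro X Y hY hX g hg
    have hg' : IsAdj Q ((g⁻¹ : GG) : MM) (g : MM) := by
      simpa [-Matrix.coe_units_inv] using isAdj_of_isometry (Q := Q) (hiso (inv_mem hg))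
    exact (hY.mul hg').unique hN ((hX _ (inv_mem hg)) ▸ hg'.mul hY)
  obtain ⟨hX1, hX2⟩ := mem_centre.1 hX
  refine mem_centre.2 ⟨hcomm hY hX1, fun Z hZ => ?_⟩
  obtain ⟨Z', hZ'⟩ := exists_isAdj hN Z
  exact (hY.mul hZ'.symm).unique hN ((hX2 Z' (hcomm hZ' hZ)) ▸ hZ'.symm.mul hY)

theorem quad_sum {ι : Type*} (s : Finset ι) (x : ι → VV)
    (h : ∀ i ∈ s, ∀ j ∈ s, i ≠ j → polarBilin Q (x i) (x j) = 0) : Q (∑ i ∈ s, x i) = ∑ i ∈ s, Q (x i) := by
  classical
  induction s using Finset.induction_on with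
  | empty => simp
  | insert a s ha ih =>
    rw [Finset.sum_insert ha, Finset.sum_insert ha, quad_add,
      ih fun i hi j hj => h i (Finset.mem_insert_of_mem hi) j (Finset.mem_insert_of_mem hj), map_sum,
      Finset.sum_eq_zero (fun j hj => h a (Finset.mem_insert_self a s) j (Finset.mem_insert_of_mem hj)
        fun e => ha (e ▸ hj)), add_zero]

variable [Fintype F]

/-- A family of orthogonal self-adjoint idempotents permuted transitively gives a decomposition. -/
theorem decomp_of_idem (hQ : Plus Q) {G : Subgroup GG} (hG : G ≤ Cfsg.isometryGroup F (Q : VV → F))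
    {s m : ℕ} (hs : 2 ≤ s) (hm : 0 < m) (f : Fin s → MM) (hid : ∀ k, f k * f k = f k)
    (hor : ∀ k l, k ≠ l → f k * f l = 0) (hsum : ∑ k, f k = 1) (hself : ∀ k, IsAdj Q (f k) (f k))
    (hrank : ∀ k, finrank F (img (f k)) = m)
    (hperm : ∀ g ∈ G, ∀ k, ∃ l, (g : MM) * f k * ((g⁻¹ : GG) : MM) = f l)
    (htrans : ∀ k l, ∃ g ∈ G, (g : MM) * f k * ((g⁻¹ : GG) : MM) = f l) :
    Cfsg.Geo.IsOrthogonalMDecomposition (Q : VV → F) m (fun k => img (f k)) ∧
      G ≤ Cfsg.Geo.decompositionStabilizer (fun k => img (f k)) := by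
  classical
  have hN := hQ.nd
  have himg : ∀ k v, v ∈ img (f k) ↔ f k *ᵥ v = v := fun k v => mem_img_idem (hid k)
  have horth : ∀ k l, k ≠ l → ∀ u ∈ img (f k), ∀ v ∈ img (f l), polarBilin Q u v = 0 := by
    intro k l hkl u hu v hv
    rw [← (himg k u).1 hu, ← (himg l v).1 hv, hself k, mulVec_mulVec, hor k l hkl, zero_mulVec, map_zero]
  have hmem : ∀ k v, f k *ᵥ v ∈ img (f k) := fun k v => (himg k _).2 (by rw [mulVec_mulVec, hid])
  have hne : ∀ k, f k ≠ 0 := fun k h0 => by
    have h := hrank k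
    rw [h0, show img (0 : MM) = ⊥ by simp [img], finrank_bot] at h
    omega
  have hinj : ∀ k l, f k = f l → k = l := fun k l h => by
    by_contra hne'
    exact hne k (by rw [← hid k]; conv_lhs => arg 2; rw [h]
                    exact hor k l hne')
  refine ⟨⟨⟨⟨hs, hm, hrank, ?_, ?_⟩, fun k v hv hv0 => ?_, fun k l hkl u hu v hv => horth k l hkl u hu v hv⟩,
    fun k l => ?_⟩, fun g hg => ?_⟩
  · rw [iSupIndep_def]
    intro k
    rw [Submodule.disjoint_def]
    intro v hv hv'
    have hle : (⨆ l, ⨆ (_ : l ≠ k), img (f l)) ≤ LinearMap.ker (f k).toLin' := iSup₂_le fun l hl u hu => by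
      rw [LinearMap.mem_ker, Matrix.toLin'_apply, ← (himg l u).1 hu, mulVec_mulVec, hor k l hl.symm, zero_mulVec]
    have := hle hv'
    rwa [LinearMap.mem_ker, Matrix.toLin'_apply, (himg k v).1 hv] at this
  · refine top_unique fun v _ => ?_
    rw [← one_mulVec v, ← hsum, sum_mulVec]
    exact Submodule.sum_mem _ fun k _ => Submodule.mem_iSup_of_mem k (hmem k v)
  · obtain ⟨x, hx, hxv⟩ : ∃ x ∈ img (f k), polarBilin Q v x ≠ 0 := by
      by_contra hc
      push Not at hc
      refine hv0 (hN.1 v fun y => ?_)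
      rw [← one_mulVec y, ← hsum, sum_mulVec, map_sum]
      refine Finset.sum_eq_zero fun l _ => ?_
      by_cases hkl : k = l
      · subst hkl; exact hc _ (hmem k y)
      · exact horth k l hkl v hv _ (hmem l y)
    exact ⟨⟨x, hx, by rw [← polarBilin_apply_apply, quad_polar_comm]; exact hxv⟩,
      x, hx, by rw [← polarBilin_apply_apply]; exact hxv⟩
  · obtain ⟨g, hg, hgk⟩ := htrans k l
    let φ : VV →ₗ[F] VV := Matrix.toLin' (g : MM)
    have hφ : Function.Injective φ := fun x y hxy => by
      have := congrArg (((g⁻¹ : GG) : MM) *ᵥ ·) hxy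
      simpa [φ, Matrix.toLin'_apply, mulVec_mulVec, -Matrix.coe_units_inv] using this
    refine ⟨(Submodule.equivMapOfInjective φ hφ (img (f k))).trans
      (LinearEquiv.ofEq _ _ (by rw [TwoPrimeDim.map_img_conj, hgk])), fun v => ?_⟩
    show Q (φ (v : VV)) = Q (v : VV)
    rw [Matrix.toLin'_apply, Orth.iso_quad (hG hg)]
  · choose σ hσ using hperm g hg
    have hσi : Function.Injective σ := fun k l h => hinj _ _ (by
      have := congrArg (fun X : MM => ((g⁻¹ : GG) : MM) * X * (g : MM)) ((hσ k).trans ((congrArg f h).trans (hσ l).symm))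
      simpa [mul_assoc, -Matrix.coe_units_inv] using this)
    exact ⟨Equiv.ofBijective σ (Finite.injective_iff_bijective.1 hσi), fun k => by
      rw [TwoPrimeDim.map_img_conj, hσ k]; rfl⟩

/-- The blocks lead to a decomposition into lines, planes or halves. -/
theorem blocks_cases_of (hQ : Plus Q) {G N : Subgroup GG}
    (hH : Cfsg.Geo.IsMaximalIn (Cfsg.Geo.omegaGL (Q : VV → F)) G)
    (hirr : Cfsg.Geo.ActsIrreducibly (Cfsg.Geo.matrixSet G)) (hNG : N ≤ G) {t w : ℕ} {e : Fin t → MM}
    (hB : TwoPrimeDim.Blocks G N w e)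
    (hlines : ∀ D : Fin 10 → Submodule F VV, Cfsg.Geo.IsOrthogonalMDecomposition (Q : VV → F) 1 D →
      G ≤ Cfsg.Geo.decompositionStabilizer D → Cases Q G)
    (hplanes : ∀ D : Fin 5 → Submodule F VV, Cfsg.Geo.IsOrthogonalMDecomposition (Q : VV → F) 2 D →
      G ≤ Cfsg.Geo.decompositionStabilizer D → Cases Q G)
    (hhalves : ∀ D : Fin 2 → Submodule F VV, Cfsg.Geo.IsNondegenerateMDecomposition (QuadraticMap.polar (Q : VV → F)) 5 D →
      G ≤ Cfsg.Geo.decompositionStabilizer D → Cases Q G) : Cases Q G := by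
  have hG : G ≤ Cfsg.isometryGroup F (Q : VV → F) := hH.1.le.trans MaxSub.Orth.omegaGL_le_isometry
  classical
  have hN := hQ.nd
  have hiso : N ≤ Cfsg.isometryGroup F (Q : VV → F) := hNG.trans hG
  choose E hE using fun i => exists_isAdj hN (e i)
  have hEc : ∀ i, E i ∈ centre N := fun i => adj_mem_centre hN hiso (hB.mem i) (hE i)
  have hπ : ∀ i, ∃ j, E i = e j := by
    intro i
    refine hB.exists_eq (hEc i) ?_ ?_ fun j => ?_
    · exact ((hE i).mul (hE i)).unique hN ((hB.idem i).symm ▸ hE i)
    · intro h0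
      have h := (hE i).symm
      rw [h0] at h
      exact hB.ne_zero i (h.unique hN IsAdj.zero)
    · rcases hB.prim i (E j) (hEc j) (((hE j).mul (hE j)).unique hN ((hB.idem j).symm ▸ hE j)) with h | h
      · left
        have h' := (hE i).mul (hE j).symm
        rw [h] at h'
        rw [centre_comm (hEc i) (hB.mem j)]
        exact h'.unique hN IsAdj.zero
      · right
        have h' := (hE i).mul (hE j).symm
        rw [h] at h'
        rw [centre_comm (hEc i) (hB.mem j)]
        exact h'.unique hN (hE i)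
  choose π hπ using hπ
  have hadj : ∀ i, IsAdj Q (e i) (e (π i)) := fun i => hπ i ▸ hE i
  have hinj : ∀ i j, e i = e j → i = j := fun i j h => by
    by_contra hne
    exact hB.ne_zero i (by rw [← hB.idem i]; conv_lhs => arg 2; rw [h]
                           exact hB.orth i j hne)
  have hππ : ∀ i, π (π i) = i := fun i => hinj _ _ ((hadj (π i)).unique hN (hadj i).symm)
  have hBij : ∀ i j u v, j ≠ π i → polarBilin Q (e i *ᵥ u) (e j *ᵥ v) = 0 := fun i j u v h => by
    rw [hadj i, mulVec_mulVec, hB.orth _ _ h.symm, zero_mulVec, map_zero]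
  have hconj : ∀ g ∈ G, ∀ i j, (g : MM) * e i * ((g⁻¹ : GG) : MM) = e j →
      (g : MM) * e (π i) * ((g⁻¹ : GG) : MM) = e (π j) := by
    intro g hg i j h
    have hg' : IsAdj Q ((g⁻¹ : GG) : MM) (g : MM) := by
      simpa [-Matrix.coe_units_inv] using isAdj_of_isometry (Q := Q) (hG (inv_mem hg))
    have := ((isAdj_of_isometry (hG hg)).mul (hadj i)).mul hg'
    rw [h] at this
    rw [mul_assoc]
    exact this.unique hN (hadj j)
  have hmove : ∀ g ∈ G, ∀ i j, (g : MM) * e i * ((g⁻¹ : GG) : MM) = e j → (g : MM) * e i = e j * (g : MM) := by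
    intro g _ i j h
    rw [← h, mul_assoc _ _ (g : MM), Units.inv_mul, mul_one]
  have himg : ∀ i v, v ∈ img (e i) ↔ e i *ᵥ v = v := fun i v => mem_img_idem (hB.idem i)
  have ht : t * w = 10 := hB.card_eq.trans (Fintype.card_fin 10)
  have ht2 : 2 ≤ t := hB.decomp.two_le
  have htd : t = 2 ∨ t = 5 ∨ t = 10 := by
    have hd : t ∈ Nat.divisors 10 := Nat.mem_divisors.2 ⟨⟨w, ht.symm⟩, by norm_num⟩
    rw [show Nat.divisors 10 = {1, 2, 5, 10} by decide] at hd
    simp only [Finset.mem_insert, Finset.mem_singleton] at hd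
    omega
  have hrank : ∀ i, finrank F (img (e i)) = w := hB.decomp.finrank_eq
  by_cases hfix : ∃ i, π i = i
  · obtain ⟨i₀, hi₀⟩ := hfix
    have hall : ∀ i, π i = i := by
      intro i
      obtain ⟨g, hg, hgi⟩ := hB.trans i₀ i
      have h := hconj g hg i₀ i hgi
      rw [hi₀, hgi] at h
      exact (hinj _ _ h).symm
    obtain ⟨hD, hle⟩ := decomp_of_idem hQ hG ht2 hB.decomp.pos e hB.idem hB.orth hB.sum_eq
      (fun i => by have := hadj i; rwa [hall] at this) hrank
      (fun g hg i => let ⟨σ, hσ⟩ := hB.perm g hg; ⟨σ i, hσ i⟩) hB.trans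
    rcases htd with rfl | rfl | rfl
    · obtain rfl : w = 5 := by omega
      exact hhalves _ hD.decomp hle
    · obtain rfl : w = 2 := by omega
      exact hplanes _ hD hle
    · obtain rfl : w = 1 := by omega
      exact hlines _ hD hle
  push Not at hfix
  let K : Fin t → Submodule F VV := fun i =>
    { carrier := {v | e i *ᵥ v = v ∧ Q v = 0}
      add_mem' := fun {u v} hu hv => ⟨by rw [mulVec_add, hu.1, hv.1], by
        rw [quad_add, hu.2, hv.2, zero_add, zero_add, ← hu.1, ← hv.1]
        exact hBij i i u v (hfix i).symm⟩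
      zero_mem' := ⟨mulVec_zero _, map_zero _⟩
      smul_mem' := fun r v hv => ⟨by rw [mulVec_smul, hv.1], by rw [quad_smul, hv.2, mul_zero]⟩ }
  let W : Submodule F VV := ⨆ i, K i
  have hWinv : ∀ g ∈ G, ∀ v ∈ W, (g : MM) *ᵥ v ∈ W := by
    intro g hg v hv
    have : W ≤ W.comap (Matrix.toLin' (g : MM)) := iSup_le fun i u hu => by
      obtain ⟨σ, hσ⟩ := hB.perm g hg
      refine Submodule.mem_iSup_of_mem (σ i) ⟨?_, ?_⟩
      · rw [Matrix.toLin'_apply, mulVec_mulVec, ← hmove g hg i (σ i) (hσ i), ← mulVec_mulVec, hu.1]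
      · rw [Matrix.toLin'_apply, Orth.iso_quad (hG hg), hu.2]
    simpa [Submodule.mem_comap, Matrix.toLin'_apply] using this hv
  rcases (TwoPrimeDim.actsIrreducibly_iff G).1 hirr W hWinv with hW | hW
  · -- every block is an anisotropic line
    exfalso
    have hK : ∀ i v, e i *ᵥ v = v → Q v = 0 → v = 0 := fun i v hv hQv => by
      have : v ∈ W := Submodule.mem_iSup_of_mem i ⟨hv, hQv⟩
      rwa [hW, Submodule.mem_bot] at this
    have h2 : (2 : F) = 0 := by
      by_contra h2
      refine hB.ne_zero (π ⟨0, by have := hB.decomp.two_le; omega⟩) (Matrix.ext_iff_mulVec.2 fun v => ?_)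
      rw [zero_mulVec]
      refine hK _ _ (by rw [mulVec_mulVec, hB.idem]) ?_
      have := hBij _ _ v v (hfix (π ⟨0, by have := hB.decomp.two_le; omega⟩)).symm
      rw [quad_polar_self] at this
      exact (mul_eq_zero.1 this).resolve_left h2
    haveI : CharP F 2 := CharTwo.of_one_ne_zero_of_two_eq_zero one_ne_zero h2
    have hone : ∀ i, ∃ u, e i *ᵥ u = u ∧ Q u = 1 := by
      intro i
      obtain ⟨v, hv⟩ : ∃ v, e i *ᵥ v ≠ 0 := by
        by_contra hc
        push Not at hc
        exact hB.ne_zero i (Matrix.ext_iff_mulVec.2 fun v => by rw [zero_mulVec, hc v])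
      have hne : Q (e i *ᵥ v) ≠ 0 := fun h0 => hv (hK i _ (by rw [mulVec_mulVec, hB.idem]) h0)
      obtain ⟨r, hr⟩ := FiniteField.isSquare_of_char_two (ringChar.eq F 2) (Q (e i *ᵥ v))⁻¹
      refine ⟨r • (e i *ᵥ v), by rw [mulVec_smul, mulVec_mulVec, hB.idem], ?_⟩
      rw [quad_smul, ← hr, inv_mul_cancel₀ hne]
    choose u hu using hone
    have huniq : ∀ i v, e i *ᵥ v = v → Q v = 1 → v = u i := fun i v hv hQv => by
      refine sub_eq_zero.1 (hK i _ (by rw [mulVec_sub, hv, (hu i).1]) ?_)
      rw [quad_sub, hQv, (hu i).2, ← hv, ← (hu i).1, hBij i i _ _ (hfix i).symm, sub_zero]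
      linear_combination h2
    have hsumfix : ∀ g ∈ G, (g : MM) *ᵥ (∑ i, u i) = ∑ i, u i := by
      intro g hg
      obtain ⟨σ, hσ⟩ := hB.perm g hg
      rw [mulVec_sum, ← Equiv.sum_comp σ u]
      refine Finset.sum_congr rfl fun i _ => huniq _ _ ?_ (by rw [Orth.iso_quad (hG hg), (hu i).2])
      rw [mulVec_mulVec, ← hmove g hg i (σ i) (hσ i), ← mulVec_mulVec, (hu i).1]
    let i₀ : Fin t := ⟨0, by have := hB.decomp.two_le; omega⟩
    have hne : (∑ i, u i) ≠ 0 := by
      intro h0
      have h1 := congrArg (e i₀ *ᵥ ·) h0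
      simp only [mulVec_sum, mulVec_zero] at h1
      rw [Finset.sum_eq_single i₀ (fun j _ hj => by
        rw [← (hu j).1, mulVec_mulVec, hB.orth _ _ hj.symm, zero_mulVec]) (by simp), (hu i₀).1] at h1
      have := (hu i₀).2
      rw [h1, map_zero] at this
      exact zero_ne_one this
    rcases (TwoPrimeDim.actsIrreducibly_iff G).1 hirr (F ∙ ∑ i, u i) (fun g hg v hv => by
        obtain ⟨r, rfl⟩ := Submodule.mem_span_singleton.1 hv
        rw [mulVec_smul, hsumfix g hg]
        exact Submodule.smul_mem _ _ (Submodule.mem_span_singleton_self _)) with h | h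
    · exact hne (Submodule.span_singleton_eq_bot.1 h)
    · have := finrank_span_singleton (K := F) hne
      rw [h, finrank_top, Module.finrank_fin_fun] at this
      omega
  · -- totally singular blocks, paired
    have hQe : ∀ i v, Q (e i *ᵥ v) = 0 := by
      intro i v
      have hle : W ≤ (K i).comap (Matrix.toLin' (e i)) := iSup_le fun j x hx => by
        rw [Submodule.mem_comap, Matrix.toLin'_apply]
        by_cases hij : i = j
        · subst hij; rw [hx.1]; exact hx
        · rw [← hx.1, mulVec_mulVec, hB.orth _ _ hij, zero_mulVec]; exact zero_mem _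
      have := hle (hW ▸ Submodule.mem_top : v ∈ W)
      rw [Submodule.mem_comap, Matrix.toLin'_apply] at this
      exact this.2
    have heven : Even t := by
      have h := Finset.sum_involution (s := (Finset.univ : Finset (Fin t))) (f := fun _ => (1 : ZMod 2))
        (fun i _ => π i) (fun i _ => by decide) (fun i _ _ => hfix i) (fun i _ => Finset.mem_univ _) (fun i _ => hππ i)
      rwa [Finset.sum_const, Finset.card_univ, nsmul_one, ZMod.natCast_eq_zero_iff_even, Fintype.card_fin] at h
    rcases htd with rfl | rfl | rfl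
    · obtain rfl : w = 5 := by omega
      by_cases hsw : ∃ g ∈ G, (g : MM) * e 0 * ((g⁻¹ : GG) : MM) = e 1
      · obtain ⟨g, hg, hg0⟩ := hsw
        exfalso
        have hg1 : (g : MM) * e 1 * ((g⁻¹ : GG) : MM) = e 0 := by
          obtain ⟨σ, hσ⟩ := hB.perm g hg
          have h0 : σ 0 = 1 := hinj _ _ ((hσ 0).symm.trans hg0)
          have h1 : σ 1 ≠ 1 := fun h => absurd (σ.injective (h.trans h0.symm)) (by decide)
          rw [hσ 1, show σ 1 = 0 by omega]
        have hto : ∀ i j, (g : MM) * e i * ((g⁻¹ : GG) : MM) = e j → ∀ u ∈ img (e i), (g : MM) *ᵥ u ∈ img (e j) := by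
          intro i j hij u hu
          refine (mem_img_idem (hB.idem j)).2 ?_
          rw [mulVec_mulVec, ← hmove g hg i j hij, ← mulVec_mulVec, (mem_img_idem (hB.idem i)).1 hu]
        have hts : ∀ i, ∀ u ∈ img (e i), Q u = 0 := fun i u hu => by
          rw [← (mem_img_idem (hB.idem i)).1 hu]; exact hQe i u
        refine OrthAny.swap_not_mem_omega hN (by simp) (U := img (e 0)) (U2 := img (e 1)) ?_ (hts 0) (hts 1)
          (by rw [hrank]; decide) (hH.1.le hg) (hto 0 1 hg0) (hto 1 0 hg1)
        refine ⟨Submodule.disjoint_def.2 fun x hx hx' => ?_, codisjoint_iff.2 (top_unique fun v _ => ?_)⟩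
        · rw [← (mem_img_idem (hB.idem 0)).1 hx, ← (mem_img_idem (hB.idem 1)).1 hx', mulVec_mulVec,
            hB.orth 0 1 (by decide), zero_mulVec]
        · refine Submodule.mem_sup.2 ⟨e 0 *ᵥ v, ⟨v, Matrix.toLin'_apply _ _⟩, e 1 *ᵥ v, ⟨v, Matrix.toLin'_apply _ _⟩, ?_⟩
          rw [← add_mulVec, ← Fin.sum_univ_two, hB.sum_eq, one_mulVec]
      · exact absurd (hB.trans 0 1) hsw
    · exact absurd heven (by decide)
    · obtain rfl : w = 1 := by omega
      let S : Finset (Fin 10) := Finset.univ.filter fun i => i < π i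
      have hmemS : ∀ i, i ∈ S ↔ i < π i := fun i => by simp [S]
      have hS5 : S.card = 5 := by
        have h1 : Sᶜ = S.image π := by
          ext i
          simp only [Finset.mem_compl, hmemS, Finset.mem_image, not_lt]
          constructor
          · intro h
            exact ⟨π i, by rw [hππ]; exact lt_of_le_of_ne h (hfix i), hππ i⟩
          · rintro ⟨j, hj, rfl⟩
            rw [hππ]; exact hj.le
        have hπi : Function.Injective π := fun a b h => by rw [← hππ a, h, hππ]
        have h2 := Finset.card_compl S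
        rw [h1, Finset.card_image_of_injective _ hπi, Fintype.card_fin] at h2
        omega
      let c : Fin 5 ≃ S := (Finset.equivFinOfCardEq hS5).symm
      let f : Fin 5 → MM := fun k => e (c k : Fin 10) + e (π (c k : Fin 10))
      have hS : ∀ i, ∃ k, f k = e i + e (π i) := by
        intro i
        rcases lt_or_gt_of_ne (hfix i).symm with h | h
        · exact ⟨c.symm ⟨i, (hmemS i).2 h⟩, by simp [f]⟩
        · exact ⟨c.symm ⟨π i, (hmemS _).2 (by rw [hππ]; exact h)⟩, by simp [f, hππ, add_comm]⟩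
      have hne : ∀ k l, k ≠ l → ((c k : Fin 10) ≠ c l ∧ (c k : Fin 10) ≠ π (c l : Fin 10)) := by
        intro k l hkl
        refine ⟨fun h => hkl (c.injective (Subtype.ext h)), fun h => ?_⟩
        have h1 := (hmemS _).1 (c k).2
        rw [h, hππ] at h1
        exact lt_asymm h1 ((hmemS _).1 (c l).2)
      obtain ⟨hD, hle⟩ := decomp_of_idem hQ hG (s := 5) (m := 2) (by norm_num) (by norm_num) f
        (fun k => by
          rw [add_mul, mul_add, mul_add, hB.idem, hB.idem, hB.orth _ _ (hfix _).symm, hB.orth _ _ (hfix _)]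
          simp [f])
        (fun k l hkl => by
          obtain ⟨h1, h2⟩ := hne k l hkl
          have h3 : π (c k : Fin 10) ≠ c l := fun h => h2 (by rw [← h, hππ])
          have h4 : π (c k : Fin 10) ≠ π (c l : Fin 10) := fun h => h1 (by rw [← hππ (c k : Fin 10), h, hππ])
          simp [f, add_mul, mul_add, hB.orth _ _ h1, hB.orth _ _ h2, hB.orth _ _ h3, hB.orth _ _ h4])
        (by
          rw [← hB.sum_eq, ← Finset.sum_add_sum_compl S e]
          simp only [f, Finset.sum_add_distrib]
          rw [Equiv.sum_comp c (fun i : S => e (i : Fin 10)), Equiv.sum_comp c (fun i : S => e (π (i : Fin 10))),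
            Finset.sum_coe_sort S e, Finset.sum_coe_sort S (fun i => e (π i))]
          congr 1
          refine Finset.sum_nbij' π π ?_ ?_ (fun i _ => hππ i) (fun i _ => hππ i) (fun i _ => rfl)
          · intro i hi
            simp only [Finset.mem_compl, hmemS, not_lt, hππ] at hi ⊢
            exact hi.le
          · intro i hi
            simp only [Finset.mem_compl, hmemS, not_lt, hππ] at hi ⊢
            exact lt_of_le_of_ne hi (hfix i))
        (fun k => by
          have h1 := hadj (π (c k : Fin 10))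
          rw [hππ] at h1
          have h2 := (hadj (c k : Fin 10)).add' h1
          rwa [add_comm (e (π (c k : Fin 10))) (e (c k : Fin 10))] at h2)
        (fun k => by
          have hd : img (f k) = img (e (c k : Fin 10)) ⊔ img (e (π (c k : Fin 10))) := by
            refine le_antisymm ?_ (sup_le ?_ ?_)
            · rintro _ ⟨x, rfl⟩
              rw [Matrix.toLin'_apply, add_mulVec]
              exact Submodule.add_mem_sup ⟨x, Matrix.toLin'_apply _ _⟩ ⟨x, Matrix.toLin'_apply _ _⟩
            · intro x hx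
              refine ⟨x, ?_⟩
              rw [Matrix.toLin'_apply, add_mulVec, (mem_img_idem (hB.idem _)).1 hx]
              conv_lhs => arg 2; rw [← (mem_img_idem (hB.idem _)).1 hx, mulVec_mulVec, hB.orth _ _ (hfix _), zero_mulVec]
              rw [add_zero]
            · intro x hx
              refine ⟨x, ?_⟩
              rw [Matrix.toLin'_apply, add_mulVec, (mem_img_idem (hB.idem _)).1 hx]
              conv_lhs => arg 1; rw [← (mem_img_idem (hB.idem _)).1 hx, mulVec_mulVec, hB.orth _ _ (hfix _).symm, zero_mulVec]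
              rw [zero_add]
          have h4 := Submodule.finrank_sup_add_finrank_inf_eq (img (e (c k : Fin 10))) (img (e (π (c k : Fin 10))))
          have h5 : img (e (c k : Fin 10)) ⊓ img (e (π (c k : Fin 10))) = ⊥ := (Submodule.eq_bot_iff _).2 fun x hx => by
            rw [← (mem_img_idem (hB.idem _)).1 hx.1, ← (mem_img_idem (hB.idem _)).1 hx.2, mulVec_mulVec,
              hB.orth _ _ (hfix _).symm, zero_mulVec]
          rw [h5, finrank_bot, hrank, hrank] at h4
          rw [hd]; omega)
        (fun g hg k => by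
          obtain ⟨σ, hσ⟩ := hB.perm g hg
          obtain ⟨l, hl⟩ := hS (σ (c k : Fin 10))
          refine ⟨l, ?_⟩
          rw [hl, mul_add, add_mul, hσ, hconj g hg _ _ (hσ _)])
        (fun k l => by
          obtain ⟨g, hg, hgk⟩ := hB.trans (c k : Fin 10) (c l : Fin 10)
          refine ⟨g, hg, ?_⟩
          rw [mul_add, add_mul, hgk, hconj g hg _ _ hgk])
      exact hplanes _ hD hle

end Cfsg.Agent.Lib.PlusTen
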