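import Cfsg.Agent.Lib.PlusTen.Defs
import Cfsg.Agent.Lib.MaxSub.QuadAny

/-!
A form of plus type in dimension ten admits no unitary structure over the quadratic extension.
-/

set_option autoImplicit false

namespace Cfsg.Agent.Lib.PlusTen

open Matrix Module
open Cfsg.Agent.Lib.MaxSub
open Cfsg.Agent.Lib.Geometry (quad_add quad_smul quad_polar_self quad_polar_comm)
open QuadraticMap (polarBilin)
open scoped MatrixGroups Matrix

attribute [-simp] QuadraticMap.polarBilin_apply_apply

variable {F : Type*} [Field F] [Fintype F] {Q : QuadraticForm F (Fin 10 → F)}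

/-- A similitude `k` of norm form `x ^ 2 + a x y + b y ^ 2` splits the space into five anisotropic planes. -/
theorem no_unitary (hQ : Plus Q) (k : Matrix (Fin 10) (Fin 10) F) {a b : F}
    (hab : ∀ x y : F, x ^ 2 + a * x * y + b * y ^ 2 = 0 → x = 0 ∧ y = 0)
    (hkk : k * k = a • k - b • 1)
    (hsim : ∀ (x y : F) (v : Fin 10 → F), Q (x • v + y • (k *ᵥ v)) = (x ^ 2 + a * x * y + b * y ^ 2) * Q v)
    (hadj : ∀ u v, polarBilin Q (k *ᵥ u) v = polarBilin Q u (a • v - k *ᵥ v)) : False := by
  classical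
  suffices key : ∀ (N : ℕ) (U : Submodule F (Fin 10 → F)), finrank F U = N → QuadType.Nd Q U →
      (∀ u ∈ U, k *ᵥ u ∈ U) → ∃ d, N = 2 * d ∧ (QuadType.Plus Q U ↔ Even d) by
    obtain ⟨d, hd, hiff⟩ := key 10 ⊤ (by simp) (QuadType.nd_top Q hQ.nd) (fun _ _ => Submodule.mem_top)
    obtain rfl : d = 5 := by omega
    exact absurd (hiff.1 hQ.plus) (by decide)
  intro N
  induction N using Nat.strong_induction_on with
  | _ N ih =>
  intro U hN hU hkU
  rcases Nat.eq_zero_or_pos N with rfl | hpos
  · refine ⟨0, rfl, ⟨fun _ => ⟨0, rfl⟩, fun _ => ?_⟩⟩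
    rw [Submodule.finrank_eq_zero.1 hN]
    exact ⟨⊥, le_rfl, fun u hu => by rw [(Submodule.mem_bot F).1 hu, QuadraticMap.map_zero], by simp⟩
  obtain ⟨v, hv, hv0⟩ : ∃ v ∈ U, Q v ≠ 0 := by
    by_contra hc
    push Not at hc
    obtain ⟨u, hu, hu0⟩ := (Submodule.ne_bot_iff U).1 fun h => by
      rw [h, finrank_bot] at hN
      omega
    obtain ⟨z, hz, hne⟩ := hU u hu hu0
    exact hne (QuadType.ts_polar Q hc hu hz)
  have hvne : v ≠ 0 := fun h => hv0 (by rw [h, QuadraticMap.map_zero])
  set E : Submodule F (Fin 10 → F) := Submodule.span F {v, k *ᵥ v} with hE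
  have hEmem : ∀ {e}, e ∈ E ↔ ∃ x y : F, x • v + y • (k *ᵥ v) = e := fun {e} => Submodule.mem_span_pair
  have haniso : ∀ e ∈ E, Q e = 0 → e = 0 := by
    intro e he h0
    obtain ⟨x, y, rfl⟩ := hEmem.1 he
    rw [hsim] at h0
    obtain ⟨rfl, rfl⟩ := hab x y ((mul_eq_zero.1 h0).resolve_right hv0)
    simp
  have hEd : finrank F E = 2 := by
    have hli : LinearIndependent F ![v, k *ᵥ v] := LinearIndependent.pair_iff.2 fun x y h => by
      have := hsim x y v
      rw [h, QuadraticMap.map_zero] at this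
      exact hab x y ((mul_eq_zero.1 this.symm).resolve_right hv0)
    have := finrank_span_eq_card hli
    rw [Matrix.range_cons, Matrix.range_cons, Matrix.range_empty, Set.union_empty, Set.singleton_union,
      Fintype.card_fin] at this
    exact this
  have hkE : ∀ e ∈ E, k *ᵥ e ∈ E := by
    intro e he
    obtain ⟨x, y, rfl⟩ := hEmem.1 he
    refine hEmem.2 ⟨-(b * y), x + a * y, ?_⟩
    rw [Matrix.mulVec_add, Matrix.mulVec_smul, Matrix.mulVec_smul, Matrix.mulVec_mulVec, hkk, Matrix.sub_mulVec,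
      Matrix.smul_mulVec, Matrix.smul_mulVec, Matrix.one_mulVec]
    module
  have hvk : polarBilin Q v (k *ᵥ v) = a * Q v := by
    have h1 := hsim 1 1 v
    have h2 := hsim 0 1 v
    rw [one_smul, one_smul, quad_add] at h1
    rw [zero_smul, zero_add, one_smul] at h2
    linear_combination h1 - h2
  have hEnd : QuadType.Nd Q E := by
    intro e he he0
    by_contra hc
    push Not at hc
    obtain ⟨x, y, rfl⟩ := hEmem.1 he
    have h1 := hc v (Submodule.subset_span (Set.mem_insert _ _))
    have h2 := hc (k *ᵥ v) (Submodule.subset_span (Set.mem_insert_of_mem _ rfl))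
    have hk2 : Q (k *ᵥ v) = b * Q v := by
      have := hsim 0 1 v
      rw [zero_smul, zero_add, one_smul] at this
      rw [this]; ring
    rw [map_add, map_smul, map_smul, LinearMap.add_apply, LinearMap.smul_apply, LinearMap.smul_apply, quad_polar_self,
      smul_eq_mul, smul_eq_mul, quad_polar_comm Q (k *ᵥ v) v, hvk] at h1
    rw [map_add, map_smul, map_smul, LinearMap.add_apply, LinearMap.smul_apply, LinearMap.smul_apply, quad_polar_self,
      smul_eq_mul, smul_eq_mul, hvk, hk2] at h2
    have e1 : 2 * x + a * y = 0 := mul_right_cancel₀ hv0 (by rw [zero_mul]; linear_combination h1)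
    have e2 : a * x + 2 * b * y = 0 := mul_right_cancel₀ hv0 (by rw [zero_mul]; linear_combination h2)
    by_cases h20 : (2 : F) = 0
    · have ha : a ≠ 0 := by
        intro ha
        haveI : CharP F 2 := CharTwo.of_one_ne_zero_of_two_eq_zero one_ne_zero h20
        obtain ⟨s, hs⟩ := isSquare_of_charTwo' b
        refine one_ne_zero (hab s 1 ?_).2
        rw [ha, hs]
        linear_combination (s * s) * h20
      have hy : y = 0 := (mul_eq_zero.1 (show a * y = 0 by linear_combination e1 - x * h20)).resolve_left ha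
      have hx : x = 0 := (mul_eq_zero.1 (show a * x = 0 by rw [hy] at e2; linear_combination e2)).resolve_left ha
      exact he0 (by rw [hx, hy]; simp)
    · have h0 : (2 : F) * (x ^ 2 + a * x * y + b * y ^ 2) = 0 := by linear_combination x * e1 + y * e2
      obtain ⟨rfl, rfl⟩ := hab x y ((mul_eq_zero.1 h0).resolve_left h20)
      exact he0 (by simp)
  have hEU : E ≤ U := Submodule.span_le.2 (by
    rintro z (rfl | rfl)
    · exact hv
    · exact hkU v hv)
  obtain ⟨hsup, hR, hdim⟩ := QuadType.split_off Q hU hEnd hEU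
  have hkR : ∀ u ∈ U ⊓ QuadType.perp Q E, k *ᵥ u ∈ U ⊓ QuadType.perp Q E := by
    rintro u ⟨hu1, hu2⟩
    refine ⟨hkU u hu1, fun e he => ?_⟩
    rw [quad_polar_comm, hadj]
    exact QuadType.mem_perp' Q hu2 (E.sub_mem (E.smul_mem a he) (hkE e he))
  obtain ⟨d, hd, hiff⟩ := ih _ (by omega) _ rfl hR hkR
  refine ⟨d + 1, by omega, ?_⟩
  have hnpE : ¬ QuadType.Plus Q E := by
    rintro ⟨T, hTE, hT, hTd⟩
    rw [hEd] at hTd
    obtain ⟨t, ht, ht0⟩ := (Submodule.ne_bot_iff T).1 fun h => by
      rw [h, finrank_bot] at hTd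
      omega
    exact ht0 (haniso t (hTE ht) (hT t ht))
  rw [← hsup, QuadAny.sup_iff Q hQ.nd hEnd hR inf_le_right (by rw [hEd]; decide) ⟨d, by omega⟩, Nat.even_add_one]
  constructor
  · intro h hd'
    exact hnpE (h.2 (hiff.2 hd'))
  · intro h
    exact ⟨fun h' => absurd h' hnpE, fun h' => absurd (hiff.1 h') h⟩

/-- An isometry which is skew with square `-1` needs `-1` to be a square. -/
theorem neg_one_square (hQ : Plus Q) (h2 : (2 : F) ≠ 0) (J : Matrix (Fin 10) (Fin 10) F) (hJJ : J * J = -1)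
    (hskew : ∀ u v, polarBilin Q (J *ᵥ u) v = - polarBilin Q u (J *ᵥ v)) : IsSquare (-1 : F) := by
  by_contra hsq
  refine no_unitary hQ J (a := 0) (b := 1) (fun x y h => ?_) (by rw [hJJ]; simp) (fun x y v => ?_) fun u v => ?_
  · by_cases hy : y = 0
    · subst hy
      exact ⟨by simpa using h, rfl⟩
    · exfalso
      refine hsq ⟨x / y, ?_⟩
      field_simp
      linear_combination -h
  · have hvJ : polarBilin Q v (J *ᵥ v) = 0 := by
      have h := hskew v v
      rw [quad_polar_comm Q (J *ᵥ v) v] at h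
      exact (mul_eq_zero.1 (show (2 : F) * polarBilin Q v (J *ᵥ v) = 0 by linear_combination h)).resolve_left h2
    have hJ : Q (J *ᵥ v) = Q v := by
      have h := hskew v (J *ᵥ v)
      rw [quad_polar_self, Matrix.mulVec_mulVec, hJJ, Matrix.neg_mulVec, Matrix.one_mulVec, map_neg, neg_neg,
        quad_polar_self] at h
      exact mul_left_cancel₀ h2 h
    rw [quad_add, quad_smul, quad_smul, map_smul, map_smul, LinearMap.smul_apply, hvJ, hJ]
    simp only [smul_zero, smul_eq_mul, mul_zero, zero_mul, add_zero]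
    ring
  · rw [hskew, zero_smul, zero_sub, map_neg]

end Cfsg.Agent.Lib.PlusTen
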