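import Cfsg.Agent.Lib.PlusTen.Defs
import Cfsg.Agent.Lib.PlusTen.Lines
import Cfsg.Agent.Lib.OrthAny.Proper
import Cfsg.Agent.Lib.OrthAny.Orbit
import Cfsg.Agent.Lib.MaxSub.QuadAny
import Cfsg.Agent.Lib.PrimeDim.FormDescent

/-!
helper23: five orthogonal isometric planes in a form of plus type in dimension ten: the decomposition for at least seven
elements, a reducible group for two and three, a subfield structure for four, ten lines for five.
-/

set_option autoImplicit false
set_option linter.unusedSectionVars false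
set_option maxHeartbeats 1000000

namespace Cfsg.Agent.Lib.PlusTen

open Matrix Module QuadraticMap Cfsg.Geo Cfsg.Agent.Lib Cfsg.Agent.Lib.MaxSub
open Cfsg.Agent.Lib.MaxSub.QuadType (Nd perp)
open Cfsg.Agent.Lib.Geometry (quad_add quad_smul quad_polar_self quad_polar_comm)
open scoped MatrixGroups Matrix

attribute [-simp] QuadraticMap.polarBilin_apply_apply

variable {F : Type*} [Field F] [Fintype F] {Q : QuadraticForm F (Fin 10 → F)}

local notation "VV" => (Fin 10 → F)
local notation "MM" => Matrix (Fin 10) (Fin 10) F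

/-- The orthogonal of the other summands and the type of one of them. -/
theorem planes_plus (hQ : Plus Q) {D : Fin 5 → Submodule F VV} (hD : IsOrthogonalMDecomposition ⇑Q 2 D) :
    QuadType.Plus Q (D 0) := by
  classical
  have hnd : ∀ i, Nd Q (D i) := fun i a ha ha0 => by
    obtain ⟨-, x, hx, hax⟩ := hD.decomp.nondegenerate i a ha ha0
    exact ⟨x, hx, hax⟩
  have ho : ∀ i j, i ≠ j → D j ≤ perp Q (D i) := fun i j hij y hy x hx => by
    rw [polarBilin_apply_apply]; exact hD.decomp.orthogonal i j hij x hx y hy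
  have hiso : ∀ i j, QuadType.Plus Q (D i) → QuadType.Plus Q (D j) := by
    rintro i j ⟨U, hU, hts, hd⟩
    obtain ⟨E, hE⟩ := hD.isometric i j
    let L : D i →ₗ[F] VV := (D j).subtype.comp E.toLinearMap
    have hL : Function.Injective L := (Subtype.val_injective).comp E.injective
    refine ⟨(U.comap (D i).subtype).map L, ?_, ?_, ?_⟩
    · rintro _ ⟨u, -, rfl⟩; exact (E u).2
    · rintro _ ⟨u, hu, rfl⟩
      show Q (E u : VV) = 0
      rw [hE]; exact hts _ hu
    · rw [← (Submodule.equivMapOfInjective L hL _).finrank_eq, (Submodule.comapSubtypeEquivOfLe hU).finrank_eq,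
        hd, hD.decomp.decomp.finrank_eq, hD.decomp.decomp.finrank_eq]
  by_contra h0
  have hno : ∀ i, ¬ QuadType.Plus Q (D i) := fun i h => h0 (hiso i 0 h)
  have he : ∀ i, Even (finrank F (D i)) := fun i => by rw [hD.decomp.decomp.finrank_eq i]; decide
  have s01 := QuadType.nd_sup Q (hnd 0) (hnd 1) (ho 0 1 (by decide))
  have s23 := QuadType.nd_sup Q (hnd 2) (hnd 3) (ho 2 3 (by decide))
  have o1 : D 2 ⊔ D 3 ≤ perp Q (D 0 ⊔ D 1) := by
    intro y hy x hx
    obtain ⟨a, ha, b, hb, rfl⟩ := Submodule.mem_sup.1 hy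
    obtain ⟨c, hc, d, hd, rfl⟩ := Submodule.mem_sup.1 hx
    simp only [map_add, LinearMap.add_apply, ho 0 2 (by decide) ha c hc, ho 1 2 (by decide) ha d hd,
      ho 0 3 (by decide) hb c hc, ho 1 3 (by decide) hb d hd, add_zero]
  have s4 := QuadType.nd_sup Q s01.1 s23.1 o1
  have o2 : D 4 ≤ perp Q (D 0 ⊔ D 1 ⊔ (D 2 ⊔ D 3)) := by
    intro y hy x hx
    obtain ⟨u, hu, w, hw, rfl⟩ := Submodule.mem_sup.1 hx
    obtain ⟨a, ha, b, hb, rfl⟩ := Submodule.mem_sup.1 hu
    obtain ⟨c, hc, d, hd, rfl⟩ := Submodule.mem_sup.1 hw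
    simp only [map_add, LinearMap.add_apply, ho 0 4 (by decide) hy a ha, ho 1 4 (by decide) hy b hb,
      ho 2 4 (by decide) hy c hc, ho 3 4 (by decide) hy d hd, add_zero]
  have p01 : QuadType.Plus Q (D 0 ⊔ D 1) :=
    (QuadAny.sup_iff Q hQ.nd (hnd 0) (hnd 1) (ho 0 1 (by decide)) (he 0) (he 1)).2 (iff_of_false (hno 0) (hno 1))
  have p23 : QuadType.Plus Q (D 2 ⊔ D 3) :=
    (QuadAny.sup_iff Q hQ.nd (hnd 2) (hnd 3) (ho 2 3 (by decide)) (he 2) (he 3)).2 (iff_of_false (hno 2) (hno 3))
  have e01 : Even (finrank F (D 0 ⊔ D 1 : Submodule F VV)) := s01.2 ▸ (he 0).add (he 1)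
  have e23 : Even (finrank F (D 2 ⊔ D 3 : Submodule F VV)) := s23.2 ▸ (he 2).add (he 3)
  have p4 : QuadType.Plus Q (D 0 ⊔ D 1 ⊔ (D 2 ⊔ D 3)) :=
    (QuadAny.sup_iff Q hQ.nd s01.1 s23.1 o1 e01 e23).2 (iff_of_true p01 p23)
  have htop : D 0 ⊔ D 1 ⊔ (D 2 ⊔ D 3) ⊔ D 4 = ⊤ := by
    rw [eq_top_iff, ← hD.decomp.decomp.iSup_eq_top]
    refine iSup_le fun i => ?_
    fin_cases i
    · exact le_sup_of_le_left (le_sup_of_le_left le_sup_left)
    · exact le_sup_of_le_left (le_sup_of_le_left le_sup_right)
    · exact le_sup_of_le_left (le_sup_of_le_right le_sup_left)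
    · exact le_sup_of_le_left (le_sup_of_le_right le_sup_right)
    · exact le_sup_right
  have ptop : QuadType.Plus Q (⊤ : Submodule F VV) := hQ.plus
  rw [← htop] at ptop
  exact hno 4 (((QuadAny.sup_iff Q hQ.nd s4.1 (hnd 4) o2 (s4.2 ▸ e01.add e23) (he 4)).1 ptop).1 p4)

/-- Hyperbolic pairs spanning the planes. -/
theorem planes_pairs (hQ : Plus Q) {D : Fin 5 → Submodule F VV} (hD : IsOrthogonalMDecomposition ⇑Q 2 D) :
    ∃ e f : Fin 5 → VV, (∀ i, e i ∈ D i) ∧ (∀ i, f i ∈ D i) ∧ (∀ i, Q (e i) = 0) ∧ (∀ i, Q (f i) = 0) ∧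
      (∀ i j, polarBilin Q (e i) (f j) = if i = j then 1 else 0) ∧
      (∀ i j, polarBilin Q (e i) (e j) = 0) ∧ (∀ i j, polarBilin Q (f i) (f j) = 0) ∧
      ∀ i, ∀ z ∈ D i, ∃ x y : F, z = x • e i + y • f i ∧ x * y = Q z := by
  classical
  have hnd : Nd Q (D 0) := fun a ha ha0 => by
    obtain ⟨-, x, hx, hax⟩ := hD.decomp.nondegenerate 0 a ha ha0
    exact ⟨x, hx, hax⟩
  obtain ⟨U, hU, hts, hd⟩ := planes_plus hQ hD
  rw [hD.decomp.decomp.finrank_eq 0] at hd
  obtain ⟨u, hu, hu0⟩ := (Submodule.ne_bot_iff U).1 fun hb => by rw [hb, finrank_bot] at hd; omega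
  obtain ⟨z, hz, hQz, huz, hle, -, hfr, -⟩ := QuadAny.exists_hyp Q hQ.nd hnd (hU hu) hu0 (hts u hu)
  have hsp : (F ∙ u) ⊔ (F ∙ z) = D 0 :=
    Submodule.eq_of_le_of_finrank_le hle (by rw [hfr, hD.decomp.decomp.finrank_eq 0])
  choose E hE using fun j => hD.isometric 0 j
  let e : Fin 5 → VV := fun j => (E j ⟨u, hU hu⟩ : VV)
  let f : Fin 5 → VV := fun j => (E j ⟨z, hz⟩ : VV)
  have he : ∀ j, e j ∈ D j := fun j => (E j _).2
  have hf : ∀ j, f j ∈ D j := fun j => (E j _).2
  have hQe : ∀ j, Q (e j) = 0 := fun j => (hE j _).trans (hts u hu)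
  have hQf : ∀ j, Q (f j) = 0 := fun j => (hE j _).trans hQz
  have hself : ∀ j, polarBilin Q (e j) (f j) = 1 := by
    intro j
    rw [polarBilin_apply_apply, QuadraticMap.polar]
    show Q ((E j ⟨u, hU hu⟩ : VV) + (E j ⟨z, hz⟩ : VV)) - Q _ - Q _ = 1
    rw [← Submodule.coe_add, ← map_add, hE, hE, hE]
    rw [polarBilin_apply_apply, QuadraticMap.polar] at huz
    exact huz
  have hdiff : ∀ i j, i ≠ j → ∀ a ∈ D i, ∀ b ∈ D j, polarBilin Q a b = 0 := fun i j h a ha b hb => by
    rw [polarBilin_apply_apply]; exact hD.decomp.orthogonal i j h a ha b hb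
  refine ⟨e, f, he, hf, hQe, hQf, fun i j => ?_, fun i j => ?_, fun i j => ?_, fun i w hw => ?_⟩
  · split_ifs with h
    · subst h; exact hself i
    · exact hdiff i j h _ (he i) _ (hf j)
  · by_cases h : i = j
    · subst h; rw [quad_polar_self, hQe, mul_zero]
    · exact hdiff i j h _ (he i) _ (he j)
  · by_cases h : i = j
    · subst h; rw [quad_polar_self, hQf, mul_zero]
    · exact hdiff i j h _ (hf i) _ (hf j)
  · obtain ⟨a, ha⟩ := (E i).surjective ⟨w, hw⟩
    obtain ⟨p, hp, q, hq, hpq⟩ := Submodule.mem_sup.1 (hsp.symm ▸ a.2 : (a : VV) ∈ (F ∙ u) ⊔ (F ∙ z))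
    obtain ⟨x, rfl⟩ := Submodule.mem_span_singleton.1 hp
    obtain ⟨y, rfl⟩ := Submodule.mem_span_singleton.1 hq
    have hw' : w = x • e i + y • f i := by
      have ha' : a = x • (⟨u, hU hu⟩ : D 0) + y • ⟨z, hz⟩ := Subtype.ext hpq.symm
      rw [ha', map_add, map_smul, map_smul] at ha
      exact (congrArg Subtype.val ha).symm
    refine ⟨x, y, hw', ?_⟩
    rw [hw', quad_add, quad_smul, quad_smul, hQe, hQf, map_smul, map_smul, LinearMap.smul_apply, hself i,
      smul_eq_mul, smul_eq_mul]
    ring

/-- Five isometric orthogonal planes, the case of ten lines being given. -/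
theorem planes_cases_of (hQ : Plus Q) {H : Subgroup (GL (Fin 10) F)} (hH : IsMaximalIn (omegaGL ⇑Q) H)
    (hirr : ActsIrreducibly (matrixSet H))
    (hlines : ∀ D : Fin 10 → Submodule F VV, IsOrthogonalMDecomposition ⇑Q 1 D → H ≤ decompositionStabilizer D →
      Cases Q H)
    {D : Fin 5 → Submodule F VV} (hD : IsOrthogonalMDecomposition ⇑Q 2 D) (hle : H ≤ decompositionStabilizer D) :
    Cases Q H := by
  classical
  by_cases h7 : 7 ≤ Fintype.card F
  · exact Or.inr (Or.inr (Or.inr (Or.inr (Or.inr (Or.inr (Or.inr (Or.inl ⟨h7, D, hD,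
      PrimeDim.OrthProper.eq_inf_of_le hH hle
        (OrthAny.not_le_decompositionStabilizer hQ.nd (by simp) hD.decomp.decomp)⟩)))))))
  obtain ⟨e, f, he, hf, hQe, hQf, hef, hee, hff, hcoord⟩ := planes_pairs hQ hD
  have hiso : ∀ g ∈ H, g ∈ Cfsg.isometryGroup F ⇑Q := fun g hg => Orth.omegaGL_le_isometry (hH.1.le hg)
  have hfe : ∀ i j, polarBilin Q (f i) (e j) = if i = j then 1 else 0 := fun i j => by
    rw [quad_polar_comm, hef]
    by_cases h : i = j <;> simp [h, Ne.symm]
  -- a value is sent to a value in the image plane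
  have hmove : ∀ g ∈ H, ∃ σ : Equiv.Perm (Fin 5), ∀ i (a b : F), ∃ x y : F,
      (g : MM) *ᵥ (a • e i + b • f i) = x • e (σ i) + y • f (σ i) ∧ x * y = a * b := by
    intro g hg
    obtain ⟨σ, hσ⟩ := hle hg
    refine ⟨σ, fun i a b => ?_⟩
    have hm : (g : MM) *ᵥ (a • e i + b • f i) ∈ D (σ i) := hσ i ▸
      ⟨_, (D i).add_mem ((D i).smul_mem a (he i)) ((D i).smul_mem b (hf i)), Matrix.toLin'_apply _ _⟩
    obtain ⟨x, y, h1, h2⟩ := hcoord _ _ hm
    refine ⟨x, y, h1, ?_⟩
    rw [h2, Orth.iso_quad (hiso g hg), quad_add, quad_smul, quad_smul, hQe, hQf, map_smul, map_smul,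
      LinearMap.smul_apply, hef, if_pos rfl, smul_eq_mul, smul_eq_mul]
    ring
  have hne6 : Fintype.card F ≠ 6 := fun h => by
    obtain ⟨p, hp⟩ := CharP.exists F
    obtain ⟨m, hpp, hm⟩ := FiniteField.card F p
    rw [h] at hm
    have hd : p ∣ 6 := hm ▸ dvd_pow_self p m.ne_zero
    have h2 := Nat.le_of_dvd (by norm_num) hd
    have h2' := hpp.two_le
    interval_cases p
    · exact absurd (Nat.prime_three.dvd_of_dvd_pow (hm ▸ (by norm_num) : 3 ∣ 2 ^ (m : ℕ))) (by norm_num)
    · exact absurd (Nat.prime_two.dvd_of_dvd_pow (hm ▸ (by norm_num) : 2 ∣ 3 ^ (m : ℕ))) (by norm_num)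
    all_goals first | omega | (revert hpp; norm_num)
  have h1q : 1 < Fintype.card F := Fintype.one_lt_card
  have hpow : ∀ a : F, a ≠ 0 → a ^ (Fintype.card F - 1) = 1 := fun a ha => FiniteField.pow_card_sub_one_eq_one a ha
  have hinv : ∀ {x y : F}, x * y = 1 → x ≠ 0 := fun h => left_ne_zero_of_mul_eq_one h
  let v : Fin 5 → VV := fun i => e i + f i
  have hsmall : Fintype.card F = 2 ∨ Fintype.card F = 3 ∨ Fintype.card F = 4 ∨ Fintype.card F = 5 := by omega
  -- over two and three elements the vectors `e + f` span an invariant subspace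
  have hspan : (∀ a : F, a ≠ 0 → a * a = 1) → False := by
    intro hsq
    let W : Submodule F VV := Submodule.span F (Set.range v)
    have hWinv : ∀ g ∈ H, ∀ w ∈ W, (g : MM) *ᵥ w ∈ W := by
      intro g hg w hw
      induction hw using Submodule.span_induction with
      | mem w hw =>
        obtain ⟨i, rfl⟩ := hw
        obtain ⟨σ, hσ⟩ := hmove g hg
        obtain ⟨x, y, h1, h2⟩ := hσ i 1 1
        rw [one_smul, one_smul, mul_one] at *
        have hxy : y = x := by
          linear_combination x * h2 - y * hsq x (hinv h2)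
        rw [show v i = e i + f i from rfl, h1, hxy, ← smul_add]
        exact W.smul_mem _ (Submodule.subset_span ⟨σ i, rfl⟩)
      | zero => rw [Matrix.mulVec_zero]; exact W.zero_mem
      | add a b _ _ ha hb => rw [Matrix.mulVec_add]; exact W.add_mem ha hb
      | smul c a _ ha => rw [Matrix.mulVec_smul]; exact W.smul_mem _ ha
    have hW5 : finrank F W ≤ 5 := (finrank_range_le_card (R := F) v).trans (by simp)
    rcases hirr W (by
      rintro _ ⟨g, hg, rfl⟩ _ ⟨w, hw, rfl⟩
      exact hWinv g hg w hw) with h | h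
    · have hv : v 0 ∈ W := Submodule.subset_span ⟨0, rfl⟩
      rw [h, Submodule.mem_bot] at hv
      have := congrArg (polarBilin Q (e 0)) hv
      simp [v, hee, hef] at this
    · rw [h, finrank_top, Module.finrank_fin_fun] at hW5
      omega
  rcases hsmall with hq | hq | hq | hq
  · exact (hspan fun a ha => by
      have := hpow a ha
      rw [hq, pow_one] at this
      rw [this, one_mul]).elim
  · exact (hspan fun a ha => by
      have := hpow a ha
      rwa [hq, show 3 - 1 = 2 from rfl, pow_two] at this).elim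
  · -- four elements: a structure over the prime field
    have htwo : (2 : F) = 0 := by
      have h := FiniteField.cast_card_eq_zero F
      rw [hq] at h
      push_cast at h
      have h' : (2 : F) * 2 = 0 := by linear_combination h
      exact mul_self_eq_zero.1 h'
    haveI : Fact (Nat.Prime 2) := ⟨Nat.prime_two⟩
    haveI : CharP F 2 := CharTwo.of_one_ne_zero_of_two_eq_zero one_ne_zero htwo
    set F₀ : Subfield F := ⊥
    have hc0 : Nat.card F₀ = 2 := Subfield.card_bot F 2
    obtain ⟨w, hw0, hw1⟩ : ∃ w : F, w ≠ 0 ∧ w ≠ 1 := by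
      by_contra! hcon
      have : (Finset.univ : Finset F) ⊆ {0, 1} := fun x _ => by
        by_cases hx : x = 0
        · simp [hx]
        · simp [hcon x hx]
      have := (Finset.card_le_card this).trans Finset.card_le_two
      rw [Finset.card_univ, hq] at this
      omega
    have hw3 : w ^ 3 = 1 := by have := hpow w hw0; rwa [hq] at this
    have hww : w * w = w + 1 := by
      have h : (w - 1) * (w * w + w + 1) = 0 := by linear_combination hw3
      have := (mul_eq_zero.1 h).resolve_left (sub_ne_zero.2 hw1)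
      linear_combination this - (w + 1) * htwo
    -- every element is `s + t w` with `s`, `t` in the prime field
    have hall : ∀ x : F, ∃ s t : F₀, x = (s : F) + (t : F) * w := by
      have hinj : Function.Injective fun z : F₀ × F₀ => (z.1 : F) + (z.2 : F) * w := by
        rintro ⟨s, t⟩ ⟨s', t'⟩ h
        simp only at h
        by_cases ht : t = t'
        · subst ht; exact Prod.ext (Subtype.ext (add_right_cancel h)) rfl
        · exfalso
          have hd : ((t : F) - t') ≠ 0 := sub_ne_zero.2 fun h => ht (Subtype.ext h)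
          have hwF : w ∈ F₀ := by
            have e1 : w = ((s' : F) - s) / ((t : F) - t') := by rw [eq_div_iff hd]; linear_combination h
            rw [e1]
            exact div_mem (sub_mem s'.2 s.2) (sub_mem t.2 t'.2)
          have : Fintype F₀ := Fintype.ofFinite _
          have := FiniteField.pow_card (⟨w, hwF⟩ : F₀)
          rw [← Nat.card_eq_fintype_card, hc0] at this
          have h2 : w ^ 2 = w := congrArg Subtype.val this
          exact hw1 (mul_left_cancel₀ hw0 (by rw [← pow_two, h2, mul_one]))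
      have : Fintype F₀ := Fintype.ofFinite _
      have hsurj := ((Fintype.bijective_iff_injective_and_card _).2 ⟨hinj, by
        rw [Fintype.card_prod, ← Nat.card_eq_fintype_card, hc0, hq]⟩).2
      intro x
      obtain ⟨⟨s, t⟩, h⟩ := hsurj x
      exact ⟨s, t, h.symm⟩
    have hfix : ∀ s : F₀, (s : F) * s = s := fun s => by
      have : Fintype F₀ := Fintype.ofFinite _
      have h := FiniteField.pow_card s
      rw [← Nat.card_eq_fintype_card, hc0] at h
      rw [← pow_two]
      exact congrArg Subtype.val h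
    let p : Fin 10 ≃ Fin 5 × Fin 2 := (finProdFinEquiv (m := 5) (n := 2)).symm
    let b : Fin 5 × Fin 2 → VV := fun k => if k.2 = 0 then v k.1 else w • e k.1 + (w * w) • f k.1
    have hb : ∀ i (s t : F₀), (s : F) • b (i, 0) + (t : F) • b (i, 1) =
        ((s : F) + t * w) • e i + ((s : F) + t * w) ^ 2 • f i := by
      intro i s t
      have hsq : ((s : F) + t * w) ^ 2 = s + t * (w * w) := by
        linear_combination hfix s + (w * w) * hfix t + ((s : F) * t * w) * htwo
      rw [hsq]
      simp only [b, v, Fin.isValue, if_true, one_ne_zero, if_false]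
      module
    have hsqinv : ∀ {x y : F}, x * y = 1 → y = x ^ 2 := fun {x y} h => by
      have h3 := hpow x (hinv h)
      rw [hq] at h3
      linear_combination x ^ 2 * h - y * h3
    have hgb : ∀ g ∈ H, ∀ k, ∃ (j : Fin 5) (s t : F₀),
        (g : MM) *ᵥ b k = (s : F) • b (j, 0) + (t : F) • b (j, 1) := by
      intro g hg k
      obtain ⟨σ, hσ⟩ := hmove g hg
      obtain ⟨i, c⟩ := k
      have key : ∀ a a' : F, a * a' = 1 → ∃ (j : Fin 5) (s t : F₀),
          (g : MM) *ᵥ (a • e i + a' • f i) = (s : F) • b (j, 0) + (t : F) • b (j, 1) := by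
        intro a a' haa
        obtain ⟨x, y, h1, h2⟩ := hσ i a a'
        rw [haa] at h2
        obtain ⟨s, t, rfl⟩ := hall x
        exact ⟨σ i, s, t, by rw [h1, hb, ← hsqinv h2]⟩
      fin_cases c
      · simpa [b, v] using key 1 1 (one_mul 1)
      · simpa [b] using key w (w * w) (by linear_combination hw3)
    have hQb : ∀ k, Q (b k) = 1 := by
      rintro ⟨i, c⟩
      fin_cases c <;> simp only [b, v, Fin.isValue, Fin.zero_eta, Fin.mk_one, if_true, one_ne_zero, if_false, quad_add,
        quad_smul, hQe, hQf, map_smul, LinearMap.smul_apply, hef, smul_eq_mul, mul_zero, zero_add, mul_one]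
      linear_combination hw3
    have hbb : ∀ k l, polarBilin Q (b k) (b l) ∈ F₀ := by
      rintro ⟨i, c⟩ ⟨j, d⟩
      by_cases h : i = j
      · subst h
        fin_cases c <;> fin_cases d <;>
          simp only [b, v, Fin.isValue, Fin.zero_eta, Fin.mk_one, if_true, one_ne_zero, if_false, map_add,
            LinearMap.add_apply, map_smul, LinearMap.smul_apply, hef, hfe, hee, hff, smul_eq_mul, mul_zero, zero_add,
            add_zero, mul_one]
        · rw [show (1 : F) + 1 = 0 by linear_combination htwo]; exact F₀.zero_mem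
        all_goals first
          | (convert F₀.one_mem using 1; linear_combination hww + w * htwo)
          | (convert F₀.zero_mem using 1; linear_combination (w * w * w) * htwo)
      · rw [polarBilin_apply_apply, hD.decomp.orthogonal i j h (b (i, c)) ?_ (b (j, d)) ?_]
        · exact F₀.zero_mem
        · fin_cases c
          · exact (D i).add_mem (he i) (hf i)
          · exact (D i).add_mem ((D i).smul_mem _ (he i)) ((D i).smul_mem _ (hf i))
        · fin_cases d
          · exact (D j).add_mem (he j) (hf j)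
          · exact (D j).add_mem ((D j).smul_mem _ (he j)) ((D j).smul_mem _ (hf j))
    have hli : LinearIndependent F b := by
      rw [Fintype.linearIndependent_iff]
      intro c hc k
      obtain ⟨i, d⟩ := k
      have h1 := congrArg (polarBilin Q (e i)) hc
      have h2 := congrArg (polarBilin Q (f i)) hc
      simp only [Fintype.sum_prod_type, Fin.sum_univ_two, b, v, Fin.isValue, if_true, one_ne_zero, if_false, map_sum,
        map_add, map_smul, hee, hef, hfe, hff, smul_eq_mul, mul_ite, mul_one, mul_zero, zero_add, add_zero,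
        map_zero, Finset.sum_add_distrib, Finset.sum_ite_eq, Finset.mem_univ] at h1 h2
      have h3 : c (i, 1) * (w * (w - 1)) = 0 := by linear_combination h1 - h2
      have h4 : c (i, 1) = 0 := (mul_eq_zero.1 h3).resolve_right (mul_ne_zero hw0 (sub_ne_zero.2 hw1))
      fin_cases d
      · rw [h4, zero_mul, add_zero] at h2; exact h2
      · exact h4
    let M₀ : MM := Matrix.of fun r j => b (p j) r
    have hM₀ : ∀ j, M₀ *ᵥ Pi.single j 1 = b (p j) := fun j => by rw [Matrix.mulVec_single_one]; rfl
    have hPdet : M₀.det ≠ 0 := by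
      have hc : LinearIndependent F M₀.col := hli.comp p p.injective
      exact ((Matrix.isUnit_iff_isUnit_det _).1 (Matrix.linearIndependent_cols_iff_isUnit.1 hc)).ne_zero
    let P : GL (Fin 10) F := Matrix.GeneralLinearGroup.mkOfDetNeZero M₀ hPdet
    have hP : (P : MM) = M₀ := rfl
    have hF₀ : F₀ ≠ ⊤ := fun he => by
      have : Nat.card F₀ = Nat.card F := by rw [he]; exact Nat.card_congr (Subfield.topEquiv (K := F)).toEquiv
      rw [hc0, Nat.card_eq_fintype_card, hq] at this
      omega
    refine Or.inr (Or.inr (Or.inr (Or.inr (Or.inr (Or.inr (Or.inr (Or.inr (Or.inr (Or.inr (Or.inr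
      (Or.inl ⟨F₀, 2, P, 1, Nat.prime_two, by rw [hc0, hq]; norm_num, one_ne_zero, fun x hx => ?_,
      PrimeDim.OrthProper.eq_inf_of_le hH (fun g hg => ?_)
        (OrthAny.not_le_subfieldSubgroup hQ.nd (by simp) hF₀ P)⟩)))))))))))
    · show (1 : F) * Q ((P : MM) *ᵥ x) ∈ F₀
      rw [one_mul]
      have hval : (P : MM) *ᵥ x = ∑ j, x j • b (p j) := by
        conv_lhs => rw [pi_eq_sum_univ' x, Matrix.mulVec_sum]
        refine Finset.sum_congr rfl fun j _ => ?_
        rw [Matrix.mulVec_smul, hP, hM₀]
      rw [hval]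
      have hmem : ∀ S : Finset (Fin 10), Q (∑ j ∈ S, x j • b (p j)) ∈ F₀ := by
        intro S
        induction S using Finset.induction_on with
        | empty => rw [Finset.sum_empty, QuadraticMap.map_zero]; exact F₀.zero_mem
        | insert a S ha ih =>
          rw [Finset.sum_insert ha, quad_add, quad_smul, hQb, map_sum (polarBilin Q (x a • b (p a))), mul_one]
          refine F₀.add_mem (F₀.add_mem (F₀.mul_mem (hx a) (hx a)) ih) (F₀.sum_mem fun j _ => ?_)
          rw [map_smul, map_smul, LinearMap.smul_apply, smul_eq_mul, smul_eq_mul]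
          exact F₀.mul_mem (hx _) (F₀.mul_mem (hx _) (hbb _ _))
      exact hmem _
    · have hent : ∀ i j, ((P⁻¹ * g * P : GL (Fin 10) F) : MM) i j ∈ F₀ := by
        intro i j
        obtain ⟨l, s, t, hgv⟩ := hgb g hg (p j)
        have hcol : ((P⁻¹ * g * P : GL (Fin 10) F) : MM) *ᵥ Pi.single j 1 =
            (s : F) • Pi.single (p.symm (l, 0)) 1 + (t : F) • Pi.single (p.symm (l, 1)) 1 := by
          rw [Units.val_mul, Units.val_mul, ← Matrix.mulVec_mulVec, ← Matrix.mulVec_mulVec, hP, hM₀, hgv]
          nth_rewrite 1 [← p.apply_symm_apply (l, 0)]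
          nth_rewrite 1 [← p.apply_symm_apply (l, 1)]
          rw [← hM₀, ← hM₀, ← hP, ← Matrix.mulVec_smul, ← Matrix.mulVec_smul, ← Matrix.mulVec_add,
            Matrix.mulVec_mulVec, ← Units.val_mul, inv_mul_cancel, Units.val_one, Matrix.one_mulVec]
        have h3 := congrFun hcol i
        rw [Matrix.mulVec_single_one] at h3
        rw [show ((P⁻¹ * g * P : GL (Fin 10) F) : MM) i j = _ from h3]
        simp only [Pi.add_apply, Pi.smul_apply, Pi.single_apply, smul_eq_mul, mul_ite, mul_one, mul_zero]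
        split_ifs <;> simp [add_mem, s.2, t.2]
      let A : Matrix (Fin 10) (Fin 10) F₀ := Matrix.of fun i j => ⟨_, hent i j⟩
      have hA : A.map F₀.subtype = ((P⁻¹ * g * P : GL (Fin 10) F) : MM) := rfl
      have hAdet : A.det ≠ 0 := fun h0 => by
        have h1 : (A.map F₀.subtype).det = 0 := by
          rw [← RingHom.mapMatrix_apply, ← RingHom.map_det, h0, map_zero]
        rw [hA] at h1
        exact (Matrix.GeneralLinearGroup.det_ne_zero _) h1
      refine ⟨Matrix.GeneralLinearGroup.map (F₀.subtype : F₀ →+* F)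
        (Matrix.GeneralLinearGroup.mkOfDetNeZero A hAdet), Subgroup.mem_sup_left ⟨_, rfl⟩, ?_⟩
      rw [show Matrix.GeneralLinearGroup.map (F₀.subtype : F₀ →+* F)
        (Matrix.GeneralLinearGroup.mkOfDetNeZero A hAdet) = P⁻¹ * g * P from Units.ext hA]
      simp only [MulEquiv.coe_toMonoidHom, MulAut.conj_apply]
      group
  · -- five elements: ten orthogonal lines
    have hfive : (5 : F) = 0 := by
      have h := FiniteField.cast_card_eq_zero F
      rwa [hq] at h
    have h2 : (2 : F) ≠ 0 := fun h => one_ne_zero (α := F) (by linear_combination hfive - 2 * h)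
    let p : Fin 10 ≃ Fin 5 × Fin 2 := (finProdFinEquiv (m := 5) (n := 2)).symm
    let b : Fin 5 × Fin 2 → VV := fun k => if k.2 = 0 then v k.1 else (2 : F) • e k.1 + (3 : F) • f k.1
    let u : Fin 10 → VV := fun k => b (p k)
    have hbD : ∀ k, b k ∈ D k.1 := by
      rintro ⟨i, c⟩
      fin_cases c
      · exact (D i).add_mem (he i) (hf i)
      · exact (D i).add_mem ((D i).smul_mem _ (he i)) ((D i).smul_mem _ (hf i))
    have hQb : ∀ k, Q (b k) = 1 := by
      rintro ⟨i, c⟩
      fin_cases c <;> simp only [b, v, Fin.isValue, Fin.zero_eta, Fin.mk_one, if_true, one_ne_zero, if_false, quad_add,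
        quad_smul, hQe, hQf, map_smul, LinearMap.smul_apply, hef, smul_eq_mul, mul_zero, zero_add, mul_one]
      linear_combination hfive
    have horth : ∀ k l, k ≠ l → polarBilin Q (b k) (b l) = 0 := by
      rintro ⟨i, c⟩ ⟨j, d⟩ hkl
      by_cases h : i = j
      · subst h
        fin_cases c <;> fin_cases d <;>
          first
          | exact absurd rfl hkl
          | (simp only [b, v, Fin.isValue, Fin.zero_eta, Fin.mk_one, if_true, one_ne_zero, if_false, map_add,
              LinearMap.add_apply, map_smul, LinearMap.smul_apply, hef, hfe, hee, hff, smul_eq_mul, mul_zero, zero_add,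
              add_zero, mul_one]
             linear_combination hfive)
      · rw [polarBilin_apply_apply]
        exact hD.decomp.orthogonal i j h _ (hbD (i, c)) _ (hbD (j, d))
    have hBu : ∀ k l, polarBilin Q (u k) (u l) = if k = l then 2 else 0 := by
      intro k l
      by_cases hkl : k = l
      · subst hkl; rw [if_pos rfl, quad_polar_self, hQb, mul_one]
      · rw [if_neg hkl]; exact horth _ _ fun e => hkl (p.injective e)
    have hli : LinearIndependent F u := by
      refine Fintype.linearIndependent_iff.mpr fun g hg k => ?_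
      have h := congrArg (polarBilin Q (u k)) hg
      simp only [map_sum, map_zero, map_smul, hBu, smul_eq_mul, mul_ite, mul_zero, Finset.sum_ite_eq,
        Finset.mem_univ, if_true] at h
      exact (mul_eq_zero.mp h).resolve_right h2
    have hu0 : ∀ k, u k ≠ 0 := fun k => hli.ne_zero k
    let D' : Fin 10 → Submodule F VV := fun k => F ∙ u k
    have hD'1 : ∀ k, finrank F (D' k) = 1 := fun k => finrank_span_singleton (hu0 k)
    have hD' : IsOrthogonalMDecomposition ⇑Q 1 D' := by
      refine ⟨⟨⟨by norm_num, one_pos, hD'1, hli.iSupIndep_span_singleton, ?_⟩, fun k => ?_, fun k l hkl => ?_⟩,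
        fun k l => ?_⟩
      · rw [← Submodule.span_range_eq_iSup]
        exact hli.span_eq_top_of_card_eq_finrank (by simp)
      · intro z hz hz0
        obtain ⟨d, rfl⟩ := Submodule.mem_span_singleton.mp hz
        have hd0 : d ≠ 0 := fun h => hz0 (by rw [h, zero_smul])
        have hne : polarBilin Q (u k) (d • u k) ≠ 0 := by
          rw [map_smul, smul_eq_mul, hBu, if_pos rfl]
          exact mul_ne_zero hd0 h2
        refine ⟨⟨u k, Submodule.mem_span_singleton_self _, ?_⟩, u k, Submodule.mem_span_singleton_self _, ?_⟩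
        · rwa [← polarBilin_apply_apply]
        · rw [QuadraticMap.polar_comm, ← polarBilin_apply_apply]; exact hne
      · intro x hx z hz
        obtain ⟨a, rfl⟩ := Submodule.mem_span_singleton.mp hx
        obtain ⟨d, rfl⟩ := Submodule.mem_span_singleton.mp hz
        rw [← polarBilin_apply_apply, map_smul, map_smul, LinearMap.smul_apply, hBu, if_neg hkl,
          smul_zero, smul_zero]
      · refine ⟨(LinearEquiv.toSpanNonzeroSingleton F _ (u k) (hu0 k)).symm.trans
          (LinearEquiv.toSpanNonzeroSingleton F _ (u l) (hu0 l)), fun z => ?_⟩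
        obtain ⟨a, rfl⟩ := (LinearEquiv.toSpanNonzeroSingleton F _ (u k) (hu0 k)).surjective z
        rw [LinearEquiv.trans_apply, LinearEquiv.symm_apply_apply]
        show Q (a • u l) = Q (a • u k)
        rw [quad_smul, quad_smul, hQb, hQb]
    refine hlines D' hD' fun g hg => ?_
    obtain ⟨σ, hσ⟩ := hmove g hg
    have hstep : ∀ k, ∃ (j : Fin 10) (s : F), s ≠ 0 ∧ (g : MM) *ᵥ u k = s • u j := by
      intro k
      have hgb : ∀ i (a a' : F), a * a' = 1 → ∃ (c : Fin 2) (s : F), s ≠ 0 ∧
          (g : MM) *ᵥ (a • e i + a' • f i) = s • b (σ i, c) := by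
        intro i a a' haa
        obtain ⟨x, y, h1, hxy⟩ := hσ i a a'
        rw [haa] at hxy
        have hx0 := hinv hxy
        have h4 : (x * x - 1) * (x * x + 1) = 0 := by
          have := hpow x hx0
          rw [hq] at this
          linear_combination this
        rcases mul_eq_zero.1 h4 with h | h
        · refine ⟨0, x, hx0, ?_⟩
          have hy : y = x := by linear_combination x * hxy - y * h
          rw [h1, hy]
          simp [b, v]
        · refine ⟨1, x / 2, div_ne_zero hx0 h2, ?_⟩
          have hy : y = -x := by linear_combination y * h - x * hxy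
          have e1 : x / 2 * 3 = -x := by rw [div_mul_eq_mul_div, div_eq_iff h2]; linear_combination x * hfive
          rw [h1, hy]
          simp only [b, Fin.isValue, one_ne_zero, if_false, smul_add, smul_smul, div_mul_cancel₀ x h2, e1]
      have e23 : (2 : F) * 3 = 1 := by linear_combination hfive
      obtain ⟨c, s, hs, h⟩ : ∃ (c : Fin 2) (s : F), s ≠ 0 ∧ (g : MM) *ᵥ u k = s • b (σ (p k).1, c) := by
        by_cases hk : (p k).2 = 0
        · obtain ⟨c, s, hs, h⟩ := hgb (p k).1 1 1 (one_mul 1)
          exact ⟨c, s, hs, by simpa [u, b, v, hk] using h⟩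
        · obtain ⟨c, s, hs, h⟩ := hgb (p k).1 2 3 e23
          exact ⟨c, s, hs, by simpa [u, b, v, hk] using h⟩
      exact ⟨p.symm (σ (p k).1, c), s, hs, by simp [u, h]⟩
    choose τ s hs hτ using hstep
    have hτinj : Function.Injective τ := by
      intro k l hkl
      by_contra hne
      have h4 := Orth.iso_polar (hiso g hg) (u k) (u l)
      rw [hτ, hτ, hkl, hBu k l, if_neg hne, map_smul, map_smul, LinearMap.smul_apply, hBu, if_pos rfl, smul_eq_mul,
        smul_eq_mul] at h4
      exact mul_ne_zero (hs l) (mul_ne_zero (hs k) h2) (by linear_combination h4)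
    refine ⟨Equiv.ofBijective τ (Finite.injective_iff_bijective.mp hτinj), fun k => ?_⟩
    show (F ∙ u k).map _ = F ∙ u (τ k)
    rw [Submodule.map_span, Set.image_singleton, Matrix.toLin'_apply, hτ,
      Submodule.span_singleton_smul_eq (Ne.isUnit (hs k))]

/-- Five isometric orthogonal planes. -/
theorem planes_cases (hQ : Plus Q) {H : Subgroup (GL (Fin 10) F)} (hH : IsMaximalIn (omegaGL ⇑Q) H)
    (hirr : ActsIrreducibly (matrixSet H)) {D : Fin 5 → Submodule F VV} (hD : IsOrthogonalMDecomposition ⇑Q 2 D)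
    (hle : H ≤ decompositionStabilizer D) : Cases Q H :=
  planes_cases_of hQ hH hirr (fun _ hD' hle' => lines_cases hQ hH hD' hle') hD hle

end Cfsg.Agent.Lib.PlusTen
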