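import Cfsg.Agent.Lib.PlusTen.Unitary
import Cfsg.Agent.Lib.OrthAny.Reducible
import Cfsg.Agent.Lib.OrthAny.Orbit
import Cfsg.Agent.Lib.MaxSub.OrthFamily
import Cfsg.Agent.Lib.MaxSub.OrthOddSub
import Cfsg.Agent.Lib.Geometry.SymmBasis

/-!
Invariant subspaces and decompositions into two halves for the plus type in dimension ten.
-/

set_option autoImplicit false

namespace Cfsg.Agent.Lib.PlusTen

open Matrix Module
open Cfsg.Agent.Lib.MaxSub
open Cfsg.Agent.Lib.Geometry (quad_add quad_smul quad_polar_self quad_polar_comm)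
open Cfsg.Agent.Lib.PrimeDim.OrthProper (maps_of_mem_stabilizer mem_stabilizer_of_maps eq_inf_of_le)
open QuadraticMap (polarBilin)
open scoped MatrixGroups Matrix

attribute [-simp] QuadraticMap.polarBilin_apply_apply

variable {F : Type*} [Field F] [Fintype F] {Q : QuadraticForm F (Fin 10 → F)}

local notation "VV" => (Fin 10 → F)

/-- Every totally singular subspace lies in one of dimension five. -/
theorem exists_max (hQ : Plus Q) {W : Submodule F VV} (hW : ∀ w ∈ W, Q w = 0) :
    ∃ U : Submodule F VV, W ≤ U ∧ (∀ u ∈ U, Q u = 0) ∧ finrank F U = 5 := by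
  obtain ⟨U₀, -, hU₀, hd⟩ := hQ.plus
  rw [finrank_top, Module.finrank_fin_fun] at hd
  have hW5 : finrank F W ≤ 5 := by
    have := QuadType.ts_half Q hQ.nd (QuadType.nd_top Q hQ.nd) (le_top : W ≤ ⊤) hW
    rw [finrank_top, Module.finrank_fin_fun] at this
    omega
  let bW := Module.finBasis F W
  let bU := Module.finBasis F U₀
  let e : Fin (finrank F W) → Fin (finrank F U₀) := fun i => ⟨i, by omega⟩
  let φ₀ : W →ₗ[F] VV := bW.constr F fun i => (bU (e i) : VV)
  have hφ₀mem : ∀ w, φ₀ w ∈ U₀ := by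
    intro w
    rw [Module.Basis.constr_apply_fintype]
    exact U₀.sum_mem fun i _ => U₀.smul_mem _ (bU (e i)).2
  have hφ₀inj : ∀ w, φ₀ w = 0 → w = 0 := by
    intro w hw
    rw [Module.Basis.constr_apply_fintype] at hw
    have hli : LinearIndependent F fun i => (bU (e i) : VV) :=
      (bU.linearIndependent.map' U₀.subtype (Submodule.ker_subtype _)).comp e fun i j h => by
        simpa [e, Fin.ext_iff] using h
    have h := Fintype.linearIndependent_iff.1 hli _ hw
    exact bW.equivFun.injective (by funext i; simpa using h i)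
  obtain ⟨φ, hφ⟩ := LinearMap.exists_extend φ₀
  have hφe : ∀ a (ha : a ∈ W), φ a = φ₀ ⟨a, ha⟩ := fun a ha => LinearMap.congr_fun hφ ⟨a, ha⟩
  obtain ⟨g, hg, -⟩ := QuadType.witt_on Q hQ.nd (QuadType.nd_top Q hQ.nd) (le_top : W ≤ ⊤) φ
    (fun a _ => Submodule.mem_top)
    (fun a ha h => congrArg Subtype.val (hφ₀inj ⟨a, ha⟩ (by rw [← hφe a ha]; exact h)))
    (fun a ha => by rw [hφe a ha, hU₀ _ (hφ₀mem _), hW a ha])
  refine ⟨U₀.map (g : VV ≃ₗ[F] VV).symm.toLinearMap, fun a ha => ⟨φ a, hφe a ha ▸ hφ₀mem _, ?_⟩, ?_, ?_⟩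
  · rw [← hg a ha]; exact (g : VV ≃ₗ[F] VV).symm_apply_apply a
  · rintro _ ⟨u, hu, rfl⟩
    have h := g.2 ((g : VV ≃ₗ[F] VV).symm u)
    rw [(g : VV ≃ₗ[F] VV).apply_symm_apply] at h
    exact h.symm.trans (hU₀ u hu)
  · rw [LinearEquiv.finrank_map_eq]; omega

/-- The stabiliser of a totally singular four-space fixes a five-space above it. -/
theorem ts_four (hQ : Plus Q) {H : Subgroup (GL (Fin 10) F)} (hH : H ≤ Cfsg.Geo.omegaGL ⇑Q) {W : Submodule F VV}
    (hW : ∀ w ∈ W, Q w = 0) (hd : finrank F W = 4) (hle : H ≤ Cfsg.Geo.subspaceStabilizer W) :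
    ∃ U : Submodule F VV, U ≠ ⊥ ∧ U ≠ ⊤ ∧ (∀ u ∈ U, Q u = 0) ∧ finrank F U = 5 ∧
      H ≤ Cfsg.Geo.subspaceStabilizer U := by
  obtain ⟨U, hWU, hU, hUd⟩ := exists_max hQ hW
  refine ⟨U, fun h => by rw [h, finrank_bot] at hUd; omega,
    fun h => by rw [h, finrank_top, Module.finrank_fin_fun] at hUd; omega, hU, hUd, fun g hg => ?_⟩
  have heven := OrthFamily.even_codim hQ.nd (m := 5) (by simp) hUd hU (hH hg)
  have h4 : 4 ≤ finrank F ↥(U ⊓ U.map (Matrix.toLin' (g : Matrix (Fin 10) (Fin 10) F))) := by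
    rw [← hd]
    refine Submodule.finrank_mono (le_inf hWU fun w hw => ?_)
    refine ⟨((g⁻¹ : GL (Fin 10) F) : Matrix (Fin 10) (Fin 10) F) *ᵥ w,
      hWU (maps_of_mem_stabilizer (inv_mem (hle hg)) hw), ?_⟩
    simp [Matrix.toLin'_apply, Matrix.mulVec_mulVec]
  have hle' : U.map (Matrix.toLin' (g : Matrix (Fin 10) (Fin 10) F)) ≤ U := by
    have h5 : finrank F ↥(U ⊓ U.map (Matrix.toLin' (g : Matrix (Fin 10) (Fin 10) F))) ≤ 5 :=
      hUd ▸ Submodule.finrank_mono inf_le_left
    have h5' : finrank F ↥(U ⊓ U.map (Matrix.toLin' (g : Matrix (Fin 10) (Fin 10) F))) = 5 := by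
      obtain ⟨c, hc⟩ := heven
      omega
    exact inf_eq_right.1 (Submodule.eq_of_le_of_finrank_eq inf_le_right
      (by rw [h5', OrthFamily.finrank_map, hUd]))
  exact mem_stabilizer_of_maps fun w hw => hle' ⟨w, hw, rfl⟩

/-- Two orthogonal five-spaces: isometric exactly for `q ≡ 1 mod 4`. -/
theorem halves_type (hQ : Plus Q) (h2 : (2 : F) ≠ 0) {W Y : Submodule F VV} (hW : QuadType.Nd Q W)
    (hWd : finrank F W = 5) (hY : QuadType.perp Q W = Y) :
    (Cfsg.Geo.AreIsometricFor (⇑Q) W Y → IsSquare (-1 : F)) ∧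
      (¬ Cfsg.Geo.AreIsometricFor (⇑Q) W Y → ¬ IsSquare (-1 : F)) := by
  classical
  obtain ⟨hsup, hYnd, hdim, -⟩ := QuadType.compl_perp Q hQ.nd hW
  rw [hY] at hsup hYnd hdim
  rw [hWd, Module.finrank_fin_fun] at hdim
  have horth : ∀ u ∈ W, ∀ v ∈ Y, polarBilin Q u v = 0 := fun u hu v hv => (hY ▸ hv : v ∈ QuadType.perp Q W) u hu
  constructor
  · rintro ⟨φ, hφ⟩
    obtain ⟨π, hπ1, hπ2, hπ3, hπ4⟩ := QuadType.exists_proj Q hQ.nd hW
    rw [hY] at hπ3 hπ4
    let πW : VV →ₗ[F] W := π.codRestrict W hπ1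
    let πY : VV →ₗ[F] Y := (LinearMap.id - π).codRestrict Y hπ4
    let L : VV →ₗ[F] VV := Y.subtype ∘ₗ φ.toLinearMap ∘ₗ πW - W.subtype ∘ₗ φ.symm.toLinearMap ∘ₗ πY
    have hsplit : ∀ v : VV, (πW v : VV) + (πY v : VV) = v := fun v => by simp [πW, πY]
    have hLW : ∀ (w : W) (y : Y), L ((w : VV) + (y : VV)) = (φ w : VV) - (φ.symm y : VV) := by
      intro w y
      have e1 : πW ((w : VV) + (y : VV)) = w :=
        Subtype.ext (show π _ = _ by rw [map_add, hπ2 _ w.2, hπ3 _ y.2, add_zero])
      have e2 : πY ((w : VV) + (y : VV)) = y := Subtype.ext (show ((w : VV) + (y : VV)) - π ((w : VV) + (y : VV)) = (y : VV) by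
        rw [map_add, hπ2 _ w.2, hπ3 _ y.2, add_zero, add_sub_cancel_left])
      simp only [L, LinearMap.sub_apply, LinearMap.comp_apply, LinearEquiv.coe_coe, Submodule.subtype_apply, e1, e2]
    have hpol : ∀ (w w' : W), polarBilin Q (φ w : VV) (φ w' : VV) = polarBilin Q (w : VV) (w' : VV) := by
      intro w w'
      have h := hφ (w + w')
      simp only [map_add, Submodule.coe_add, quad_add, hφ w, hφ w'] at h
      exact add_left_cancel h
    refine neg_one_square hQ h2 (LinearMap.toMatrix' L) (Matrix.ext_iff_mulVec.2 fun v => ?_) fun u v => ?_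
    · rw [← Matrix.mulVec_mulVec, ← Matrix.toLin'_apply, ← Matrix.toLin'_apply, Matrix.toLin'_toMatrix',
        Matrix.neg_mulVec, Matrix.one_mulVec]
      conv_lhs => rw [← hsplit v, hLW, show (φ (πW v) : VV) - (φ.symm (πY v) : VV) =
        ((-(φ.symm (πY v)) : W) : VV) + (φ (πW v) : VV) by rw [Submodule.coe_neg]; abel, hLW]
      conv_rhs => rw [← hsplit v]
      simp only [map_neg, Submodule.coe_neg, LinearEquiv.apply_symm_apply, LinearEquiv.symm_apply_apply]
      abel
    · rw [← Matrix.toLin'_apply, ← Matrix.toLin'_apply, Matrix.toLin'_toMatrix']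
      conv_lhs => rw [← hsplit u, hLW]; arg 2; rw [← hsplit v]
      conv_rhs => rw [← hsplit u]; arg 1; arg 2; rw [← hsplit v, hLW]
      have o1 := fun (a : W) (b : Y) => horth a a.2 b b.2
      have o2 := fun (a : W) (b : Y) => (quad_polar_comm Q (b : VV) (a : VV)).trans (o1 a b)
      simp only [map_add, map_sub, LinearMap.add_apply, LinearMap.sub_apply, o1, o2]
      have h1 := hpol (πW u) (φ.symm (πY v))
      have h2' := hpol (φ.symm (πY u)) (πW v)
      rw [LinearEquiv.apply_symm_apply] at h1 h2'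
      linear_combination h1 + h2'
  · intro hniso hsq
    obtain ⟨s, hs⟩ := hsq
    obtain ⟨α, hα⟩ := FiniteField.exists_nonsquare (F := F) (fun h => h2 (by
      haveI := ringChar.charP F
      rw [h] at *
      exact_mod_cast CharP.cast_eq_zero F 2))
    have mk : ∀ U : Submodule F VV, QuadType.Nd Q U → finrank F U = 5 →
        ∃ b : Basis (Fin 5) F U, ∃ z : F, (z = 1 ∨ z = α) ∧ ∀ i j, polarBilin Q (b i : VV) (b j : VV) =
          if i = j then (if i = Fin.last 4 then z else 1) else 0 := by
      intro U hU hUd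
      let B : LinearMap.BilinForm F U := (polarBilin Q).compl₁₂ U.subtype U.subtype
      have hS : B.IsSymm := ⟨fun x y => quad_polar_comm Q (x : VV) (y : VV)⟩
      have hB : B.Nondegenerate := by
        have key : ∀ x : U, (∀ y, B x y = 0) → x = 0 := fun x hx => by
          by_contra hne
          obtain ⟨y, hy, hne'⟩ := hU x x.2 (fun h => hne (Subtype.ext h))
          exact hne' (hx ⟨y, hy⟩)
        exact ⟨key, fun x hx => key x fun y => (hS.eq x y).trans (hx y)⟩
      obtain ⟨b, hb1, hb2, hb3⟩ := Geometry.exists_orth_basis_one_or_nonsquare B hS hB h2 (n := 4) hUd α hα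
      refine ⟨b, B (b (Fin.last 4)) (b (Fin.last 4)), hb3, fun i j => ?_⟩
      by_cases hij : i = j
      · subst hij
        rw [if_pos rfl]
        by_cases hi : i = Fin.last 4
        · rw [if_pos hi, hi]; rfl
        · rw [if_neg hi]; exact hb2 i hi
      · rw [if_neg hij]; exact hb1 i j hij
    obtain ⟨b, z, hz, hb⟩ := mk W hW hWd
    obtain ⟨c, z', hz', hc⟩ := mk Y hYnd (by omega)
    have hzz : z ≠ z' := by
      rintro rfl
      refine hniso ⟨b.equiv c (Equiv.refl _), fun w => ?_⟩
      have key : ∀ u v : W, polarBilin Q ((b.equiv c (Equiv.refl _) u : Y) : VV) ((b.equiv c (Equiv.refl _) v : Y) : VV) =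
          polarBilin Q (u : VV) (v : VV) := by
        let e : W ≃ₗ[F] Y := b.equiv c (Equiv.refl _)
        have he : ((polarBilin Q).compl₁₂ (Y.subtype ∘ₗ e.toLinearMap) (Y.subtype ∘ₗ e.toLinearMap)) =
            (polarBilin Q).compl₁₂ W.subtype W.subtype :=
          LinearMap.ext_basis b b fun i j => by
            simp only [e, LinearMap.compl₁₂_apply, LinearMap.comp_apply, LinearEquiv.coe_coe, Submodule.subtype_apply,
              Module.Basis.equiv_apply, Equiv.refl_apply, hb, hc]
        exact fun u v => LinearMap.congr_fun (LinearMap.congr_fun he u) v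
      have h := key w w
      rw [quad_polar_self, quad_polar_self] at h
      exact mul_left_cancel₀ h2 h
    have horth' : ∀ (i j : Fin 5), polarBilin Q (b i : VV) (c j : VV) = 0 := fun i j => horth _ (b i).2 _ (c j).2
    have horth'' : ∀ (i j : Fin 5), polarBilin Q (c j : VV) (b i : VV) = 0 := fun i j =>
      (quad_polar_comm Q _ _).trans (horth' i j)
    let x : Fin 4 → VV := fun i => (b i.castSucc : VV) + s • (c i.castSucc : VV)
    have hxb : ∀ (i : Fin 4) (j : Fin 5), polarBilin Q (x i) (b j : VV) = if i.castSucc = j then 1 else 0 := by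
      intro i j
      simp only [x, map_add, map_smul, LinearMap.add_apply, LinearMap.smul_apply, horth'', smul_zero, add_zero, hb,
        if_neg (Fin.castSucc_lt_last i).ne]
    have hxc : ∀ (i : Fin 4) (j : Fin 5), polarBilin Q (x i) (c j : VV) = if i.castSucc = j then s else 0 := by
      intro i j
      simp only [x, map_add, map_smul, LinearMap.add_apply, LinearMap.smul_apply, horth', zero_add, hc,
        if_neg (Fin.castSucc_lt_last i).ne, smul_eq_mul, mul_ite, mul_one, mul_zero]
    have hxx : ∀ i j, polarBilin Q (x i) (x j) = 0 := by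
      intro i j
      conv_lhs => arg 2; simp only [x]
      rw [map_add, map_smul, hxb, hxc, smul_eq_mul]
      split_ifs
      · rw [← hs, add_neg_cancel]
      · simp
    set U4 : Submodule F VV := Submodule.span F (Set.range x) with hU4
    have hts : ∀ u ∈ U4, Q u = 0 := by
      have hpol : ∀ u ∈ U4, ∀ i, polarBilin Q (x i) u = 0 := by
        intro u hu i
        induction hu using Submodule.span_induction with
        | mem y hy => obtain ⟨j, rfl⟩ := hy; exact hxx i j
        | zero => simp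
        | add p r _ _ h1 h2 => rw [map_add, h1, h2, add_zero]
        | smul d p _ h1 => rw [map_smul, h1, smul_zero]
      intro u hu
      induction hu using Submodule.span_induction with
      | mem y hy =>
        obtain ⟨j, rfl⟩ := hy
        have h := hxx j j
        rw [quad_polar_self] at h
        exact (mul_eq_zero.1 h).resolve_left h2
      | zero => simp
      | add p r hp hr h1 h3 =>
        have : polarBilin Q p r = 0 := by
          clear h1
          induction hp using Submodule.span_induction with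
          | mem y hy => obtain ⟨j, rfl⟩ := hy; exact hpol r hr j
          | zero => simp
          | add _ _ _ _ a b => rw [map_add, LinearMap.add_apply, a, b, add_zero]
          | smul d _ _ a => rw [map_smul, LinearMap.smul_apply, a, smul_zero]
        rw [quad_add, h1, h3, this, add_zero, add_zero]
      | smul d p _ h1 => rw [quad_smul, h1, mul_zero]
    obtain ⟨U, hUle, hU, hUd⟩ := exists_max hQ hts
    have hU4d : finrank F U4 ≤ 4 := by
      have := finrank_range_le_card (R := F) x
      rw [Fintype.card_fin] at this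
      exact this
    have hnle : ¬ U ≤ U4 := fun h => by
      have := Submodule.finrank_mono h
      omega
    obtain ⟨v, hv, hv4⟩ := SetLike.not_le_iff_exists.1 hnle
    obtain ⟨w, hw, y, hy, rfl⟩ := Submodule.mem_sup.1 (hsup.symm ▸ Submodule.mem_top : v ∈ W ⊔ Y)
    set A := b.repr ⟨w, hw⟩
    set C := c.repr ⟨y, hy⟩
    have hwA : w = ∑ j, A j • (b j : VV) := by
      have h := congrArg Subtype.val (b.sum_repr ⟨w, hw⟩)
      simp only [Submodule.coe_sum, Submodule.coe_smul] at h
      exact h.symm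
    have hyC : y = ∑ j, C j • (c j : VV) := by
      have h := congrArg Subtype.val (c.sum_repr ⟨y, hy⟩)
      simp only [Submodule.coe_sum, Submodule.coe_smul] at h
      exact h.symm
    have hrel : ∀ i : Fin 4, A i.castSucc + s * C i.castSucc = 0 := by
      intro i
      have h := QuadType.ts_polar Q hU (hUle (Submodule.subset_span ⟨i, rfl⟩)) hv
      rw [hwA, hyC, map_add, map_sum, map_sum] at h
      simp only [map_smul, hxb, hxc, smul_eq_mul, mul_ite, mul_one, mul_zero, Finset.sum_ite_eq, Finset.mem_univ,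
        if_true] at h
      linear_combination h
    set r := A (Fin.last 4) • (b (Fin.last 4) : VV) + C (Fin.last 4) • (c (Fin.last 4) : VV)
    have hdec : w + y = (∑ i : Fin 4, A i.castSucc • x i) + r := by
      rw [hwA, hyC, Fin.sum_univ_castSucc (f := fun j => A j • (b j : VV)), Fin.sum_univ_castSucc (f := fun j => C j • (c j : VV))]
      have : ∀ i : Fin 4, C i.castSucc = s * A i.castSucc := fun i => by
        linear_combination (-s) * hrel i - C i.castSucc * hs
      simp only [r, x, this, smul_add, Finset.sum_add_distrib, smul_smul, mul_comm s]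
      abel
    have hsum : (∑ i : Fin 4, A i.castSucc • x i) ∈ U4 :=
      Submodule.sum_mem _ fun i _ => Submodule.smul_mem _ _ (Submodule.subset_span ⟨i, rfl⟩)
    have hr0 : Q r = 0 := by
      have : r ∈ U := by
        have h := U.sub_mem hv (hUle hsum)
        rwa [hdec, add_sub_cancel_left] at h
      exact hU r this
    have hq : A (Fin.last 4) * A (Fin.last 4) * z + C (Fin.last 4) * C (Fin.last 4) * z' = 0 := by
      have h : polarBilin Q r r = 0 := by rw [quad_polar_self, hr0, mul_zero]
      simp only [r, map_add, map_smul, LinearMap.add_apply, LinearMap.smul_apply, horth', horth'', hb, hc, if_true,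
        smul_eq_mul, mul_zero, add_zero, zero_add] at h
      linear_combination h
    have hr : r = 0 := by
      have hz0 : z ≠ 0 := by
        rcases hz with h | h <;> rw [h]
        · exact one_ne_zero
        · exact fun h0 => hα (h0 ▸ IsSquare.zero)
      have hz'0 : z' ≠ 0 := by
        rcases hz' with h | h <;> rw [h]
        · exact one_ne_zero
        · exact fun h0 => hα (h0 ▸ IsSquare.zero)
      have hC : C (Fin.last 4) = 0 := by
        by_contra hC0
        have hs0 : s ≠ 0 := fun h => by rw [h, mul_zero] at hs; exact neg_ne_zero.2 one_ne_zero hs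
        have h' : z' = (s * A (Fin.last 4) / C (Fin.last 4)) ^ 2 * z := by
          field_simp
          linear_combination hq + A (Fin.last 4) ^ 2 * z * hs
        rcases hz with h | h <;> rcases hz' with h'' | h''
        · exact hzz (h.trans h''.symm)
        · rw [h'', h, mul_one] at h'
          exact hα ⟨_, h'.trans (pow_two _)⟩
        · rw [h'', h] at h'
          have hne : s * A (Fin.last 4) / C (Fin.last 4) ≠ 0 := fun h0 => by rw [h0] at h'; simp at h'
          have hsA : s * A (Fin.last 4) ≠ 0 := fun h0 => hne (by rw [h0, zero_div])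
          field_simp at h'
          exact hα ⟨C (Fin.last 4) / (s * A (Fin.last 4)), by
            rw [div_mul_div_comm, eq_div_iff (mul_ne_zero hsA hsA)]; linear_combination -h'⟩
        · exact hzz (h.trans h''.symm)
      rw [hC] at hq
      have hA : A (Fin.last 4) = 0 := by simpa [hz0] using hq
      simp only [r, hA, hC, zero_smul, add_zero]
    exact hv4 (by rw [hdec, hr, add_zero]; exact hsum)

/-- The stabiliser of a decomposition into two orthogonal five-spaces. -/
theorem halves_cases (hQ : Plus Q) {H : Subgroup (GL (Fin 10) F)}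
    (hH : Cfsg.Geo.IsMaximalIn (Cfsg.Geo.omegaGL ⇑Q) H) {D : Fin 2 → Submodule F (Fin 10 → F)}
    (hD : Cfsg.Geo.IsNondegenerateMDecomposition (QuadraticMap.polar ⇑Q) 5 D)
    (hle : H ≤ Cfsg.Geo.decompositionStabilizer D) : Cases Q H := by
  have hd : ∀ i, finrank F (D i) = 5 := hD.decomp.finrank_eq
  have hn : ∀ i, QuadType.Nd Q (D i) := fun i => (OrthOddSub.nd_iff Q).1 (hD.nondegenerate i)
  have hperp : QuadType.perp Q (D 0) = D 1 := by
    obtain ⟨-, -, hdim, -⟩ := QuadType.compl_perp Q hQ.nd (hn 0)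
    rw [hd 0, Module.finrank_fin_fun] at hdim
    refine (Submodule.eq_of_le_of_finrank_le (fun v hv w hw => ?_) (by rw [hd 1]; omega)).symm
    rw [QuadraticMap.polarBilin_apply_apply]
    exact hD.orthogonal 0 1 (by decide) w hw v hv
  have h2 : (2 : F) ≠ 0 := fun h => by
    let B : LinearMap.BilinForm F (D 0) := (polarBilin Q).compl₁₂ (D 0).subtype (D 0).subtype
    have hB : B.IsAlt := fun x => by
      show polarBilin Q (x : VV) x = 0
      rw [quad_polar_self, h, zero_mul]
    have hk : LinearMap.ker B = ⊥ := (Submodule.eq_bot_iff _).mpr fun x hx => by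
      by_contra hx0
      obtain ⟨y, hy, hxy⟩ := hn 0 x x.2 fun e => hx0 (Subtype.ext e)
      exact hxy (LinearMap.congr_fun (LinearMap.mem_ker.mp hx) ⟨y, hy⟩)
    have := Geometry.even_finrank_sub_ker B hB
    rw [hk, finrank_bot, add_zero, hd 0] at this
    exact absurd this (by decide)
  have hodd : Fintype.card F % 2 = 1 := FiniteField.odd_card_of_char_ne_two fun hc => h2 (by
    haveI := ringChar.charP F
    rw [hc] at *
    exact_mod_cast CharP.cast_eq_zero F 2)
  have hDeq := eq_inf_of_le hH hle (OrthAny.not_le_decompositionStabilizer hQ.nd (by simp) hD.decomp)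
  obtain ⟨hi, hni⟩ := halves_type hQ h2 (hn 0) (hd 0) hperp
  by_cases hiso : Cfsg.Geo.AreIsometricFor (⇑Q) (D 0) (D 1)
  · have h4 : Fintype.card F % 4 = 1 := by
      have := FiniteField.isSquare_neg_one_iff.1 (hi hiso)
      omega
    refine Or.inr (Or.inr (Or.inr (Or.inr (Or.inr (Or.inr (Or.inr (Or.inr (Or.inl ⟨h4, D, ⟨hD, fun i j => ?_⟩, hDeq⟩))))))))
    fin_cases i <;> fin_cases j <;>
      first
        | exact ⟨LinearEquiv.refl F _, fun _ => rfl⟩
        | exact hiso
        | exact OrthOddSub.iso_symm Q hiso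
  · have h4 : Fintype.card F % 4 = 3 := by
      have := mt FiniteField.isSquare_neg_one_iff.2 (hni hiso)
      omega
    exact Or.inr (Or.inr (Or.inr (Or.inr (Or.inr (Or.inr (Or.inr (Or.inr (Or.inr (Or.inl ⟨h4, D, hD, hiso, hDeq⟩)))))))))

/-- A maximal subgroup fixing a proper subspace. -/
theorem reducible_cases (hQ : Plus Q) {H : Subgroup (GL (Fin 10) F)}
    (hH : Cfsg.Geo.IsMaximalIn (Cfsg.Geo.omegaGL ⇑Q) H) {W : Submodule F (Fin 10 → F)} (h0 : W ≠ ⊥) (h1 : W ≠ ⊤)
    (hW : ∀ g ∈ H, ∀ w ∈ W, (g : Matrix (Fin 10) (Fin 10) F) *ᵥ w ∈ W) : Cases Q H := by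
  have hN := hQ.nd
  rcases OrthAny.reducible_cases hN (by simp) hH h0 h1 hW with
    ⟨U, hU0, hts, hUeq⟩ | ⟨hq, U, hU0, hUt, hodd, hUn, hnd, hUeq⟩ | ⟨U, hU0, hUt, hev, hUn, hnd, hexc, hUeq⟩ | hline
  · by_cases h4 : finrank F U = 4
    · obtain ⟨U', h0', h1', hts', hd', hle'⟩ := ts_four hQ hH.1.le hts h4 (hUeq.le.trans inf_le_left)
      exact Or.inl ⟨U', h0', hts', by omega,
        eq_inf_of_le hH hle' (OrthAny.not_le_subspaceStabilizer hN (by simp) h0' h1')⟩
    · exact Or.inl ⟨U, hU0, hts, h4, hUeq⟩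
  · rw [Fintype.card_fin] at hUn
    by_cases h5 : finrank F U = 5
    swap
    · exact Or.inr (Or.inl ⟨hq, U, hU0, hUt, hodd, by omega, hnd, hUeq⟩)
    have hU : QuadType.Nd Q U := (OrthOddSub.nd_iff Q).1 hnd
    obtain ⟨hsup, hP, hdim, -⟩ := QuadType.compl_perp Q hN hU
    rw [finrank_fin_fun] at hdim
    have hdis : Disjoint U (QuadType.perp Q U) := by
      rw [disjoint_iff, eq_bot_iff]
      rintro v ⟨hv, hv'⟩
      by_contra hv0
      obtain ⟨x, hx, hvx⟩ := hU v hv (by simpa using hv0)
      exact hvx (QuadType.mem_perp' Q hv' hx)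
    refine halves_cases hQ hH (D := ![U, QuadType.perp Q U]) ⟨⟨le_rfl, by norm_num, ?_, ?_, ?_⟩, ?_, ?_⟩ ?_
    · exact Fin.forall_fin_two.mpr ⟨h5, show finrank F (QuadType.perp Q U) = 5 by omega⟩
    · rw [iSupIndep_pair (i := 0) (j := 1) (by decide) (fun k => by fin_cases k <;> simp)]
      simpa using hdis
    · rw [eq_top_iff, ← hsup]
      exact sup_le (le_iSup ![U, QuadType.perp Q U] 0) (le_iSup ![U, QuadType.perp Q U] 1)
    · exact Fin.forall_fin_two.mpr ⟨hnd, (OrthOddSub.nd_iff Q).2 hP⟩
    · intro i j hij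
      fin_cases i <;> fin_cases j
      · exact absurd rfl hij
      · intro u hu v hv
        rw [← QuadraticMap.polarBilin_apply_apply]
        exact hv u hu
      · intro u hu v hv
        rw [← QuadraticMap.polarBilin_apply_apply]
        exact QuadType.mem_perp' Q hu hv
      · exact absurd rfl hij
    · intro g hg
      have hiso := Orth.omegaGL_le_isometry (hH.1.le hg)
      have hmapU : U.map (Matrix.toLin' (g : Matrix (Fin 10) (Fin 10) F)) = U :=
        Submodule.eq_of_le_of_finrank_le (by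
          rintro _ ⟨w, hw, rfl⟩
          rw [Matrix.toLin'_apply]
          exact maps_of_mem_stabilizer (hUeq.le hg).1 hw) (OrthFamily.finrank_map g _).ge
      have hmapP : (QuadType.perp Q U).map (Matrix.toLin' (g : Matrix (Fin 10) (Fin 10) F)) = QuadType.perp Q U := by
        refine Submodule.eq_of_le_of_finrank_le ?_ (OrthFamily.finrank_map g _).ge
        rintro _ ⟨z, hz, rfl⟩ w hw
        obtain ⟨y, hy, rfl⟩ := hmapU.symm ▸ hw
        rw [Matrix.toLin'_apply, Matrix.toLin'_apply, Orth.iso_polar hiso]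
        exact hz y hy
      exact ⟨1, Fin.forall_fin_two.mpr ⟨hmapU, hmapP⟩⟩
  · rw [Fintype.card_fin] at hUn
    have h24 : finrank F U = 2 ∨ finrank F U = 4 := by
      obtain ⟨k, hk⟩ := hev
      have : 1 ≤ finrank F U := Submodule.one_le_finrank_iff.mpr hU0
      omega
    rcases h24 with h2d | h4d
    · by_cases hp : Cfsg.Geo.IsPlusTypeOn (⇑Q) U
      · exact Or.inr (Or.inr (Or.inr (Or.inl ⟨hexc h2d hp, U, h2d, hnd, hp, hUeq⟩)))
      · exact Or.inr (Or.inr (Or.inl ⟨U, h2d, hnd, hp, hUeq⟩))
    · exact Or.inr (Or.inr (Or.inr (Or.inr (Or.inl ⟨U, h4d, hnd, hUeq⟩))))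
  · exact Or.inr (Or.inr (Or.inr (Or.inr (Or.inr (Or.inl hline)))))

end Cfsg.Agent.Lib.PlusTen
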