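import Cfsg.Agent.Lib.PlusTen.Blocks
import Cfsg.Agent.Lib.PlusTen.Lines
import Cfsg.Agent.Lib.PlusTen.Planes
import Cfsg.Agent.Lib.PlusTen.Reducible

/-!
helper2: the block step in plus type dimension ten.
-/

set_option autoImplicit false

namespace Cfsg.Agent.Lib.PlusTen

open Cfsg.Geo
open scoped MatrixGroups

variable {F : Type*} [Field F] [Fintype F] {Q : QuadraticForm F (Fin 10 → F)}

/-- Blocks lead to the cases. -/
theorem blocks_cases (hQ : Plus Q) {H : Subgroup (GL (Fin 10) F)} (hH : IsMaximalIn (omegaGL ⇑Q) H)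
    (hirr : ActsIrreducibly (matrixSet H)) {N : Subgroup (GL (Fin 10) F)} (hN : N ≤ H)
    {t w : ℕ} {e : Fin t → Matrix (Fin 10) (Fin 10) F} (hB : TwoPrimeDim.Blocks H N w e) : Cases Q H :=
  blocks_cases_of hQ hH hirr hN hB (fun _ hD hle => lines_cases hQ hH hD hle)
    (fun _ hD hle => planes_cases hQ hH hirr hD hle) (fun _ hD hle => halves_cases hQ hH hD hle)

end Cfsg.Agent.Lib.PlusTen
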