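import Cfsg.Agent.Lib.PlusTen.Defs
import Cfsg.Agent.Lib.OrthAny.HalvesSwap
import Cfsg.Agent.Lib.TwoPrimeDim.Homogeneous
import Cfsg.Agent.Lib.OrthNine.Adjoint

/-!
helper15, after helper20's proof for minus type: a field of degree five normalised by an irreducible subgroup of
`Ω₁₀⁺(q)` extends to a field of degree ten.
-/

set_option autoImplicit false
set_option linter.unusedSectionVars false
set_option linter.style.haveILetI false
set_option maxHeartbeats 1600000

namespace Cfsg.Agent.Lib.PlusTen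

open Matrix Module Cfsg.Geo
open Cfsg.Agent.Lib.MaxSub
open Cfsg.Agent.Lib.Geometry (quad_polar_comm quad_polar_self quad_smul)
open Cfsg.Agent.Lib.OrthNine.Adjoint (Adj)
open QuadraticMap (polarBilin)
open scoped MatrixGroups Matrix

attribute [-simp] QuadraticMap.polarBilin_apply_apply

variable {F : Type*} [Field F] [Fintype F] {Q : QuadraticForm F (Fin 10 → F)}

local notation "MM" => Matrix (Fin 10) (Fin 10) F
local notation "VV" => (Fin 10 → F)

/-- A field of degree five in dimension ten, adjoint closed, normalised by an irreducible group,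
lies in one of degree ten. -/
theorem ten_of_five (hQ : Plus Q) {H : Subgroup (Matrix.GeneralLinearGroup (Fin 10) F)}
    (hΩ : H ≤ omegaGL ⇑Q) (hirr : ActsIrreducibly (matrixSet H)) {K : Subalgebra F (Matrix (Fin 10) (Fin 10) F)}
    (hK : IsFieldSubalgebra 5 K) (hadj : IsAdjointClosedFor (QuadraticMap.polar ⇑Q) K)
    (hnor : ∀ h ∈ H, h ∈ subalgebraNormalizer K) :
    ∃ E : Subalgebra F (Matrix (Fin 10) (Fin 10) F), IsFieldSubalgebra 10 E ∧
      IsAdjointClosedFor (QuadraticMap.polar ⇑Q) E ∧ ∀ h ∈ H, h ∈ subalgebraNormalizer E := by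
  classical
  haveI : Nontrivial K := ⟨⟨0, 1, fun h => zero_ne_one (α := MM) (congrArg Subtype.val h)⟩⟩
  have hf : IsField K := ⟨⟨0, 1, zero_ne_one⟩, fun x y => Subtype.ext (hK.comm x x.2 y y.2), fun {a} ha => by
    obtain ⟨y, hy, hay⟩ := hK.inv _ a.2 fun h => ha (Subtype.ext h)
    exact ⟨⟨y, hy⟩, Subtype.ext hay⟩⟩
  letI : _root_.Field K := hf.toField
  haveI : Finite K := Finite.of_injective (fun x : K => (x : MM)) Subtype.val_injective
  let B := polarBilin Q
  have hrank : Module.finrank F K = 5 := hK.finrank_eq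
  -- the field is self-adjoint
  have hsa : ∀ (k : K) (u v : VV), B ((k : MM) *ᵥ u) v = B u ((k : MM) *ᵥ v) := by
    choose a ha hadj' using fun k : K => hadj k k.2
    have hB : ∀ k : K, Adj Q (k : MM) (a k) := hadj'
    have huniq : ∀ (k : K) (k' : MM), Adj Q (k : MM) k' → a k = k' := fun k k' h => (hB k).unique hQ.nd h
    let φ : K →ₐ[F] K :=
      { toFun := fun k => ⟨a k, ha k⟩
        map_one' := Subtype.ext (huniq 1 1 OrthNine.Adjoint.adj_one)
        map_mul' := fun x y => Subtype.ext ((huniq (x * y) (a y * a x) ((hB x).mul (hB y))).trans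
          (hK.comm _ (ha y) _ (ha x)))
        map_zero' := Subtype.ext (huniq 0 0 fun u v => by
          simp only [ZeroMemClass.coe_zero, Matrix.zero_mulVec, map_zero, LinearMap.zero_apply])
        map_add' := fun x y => Subtype.ext (huniq (x + y) (a x + a y) fun u v => by
          simp only [Subalgebra.coe_add, Matrix.add_mulVec, map_add, LinearMap.add_apply, hB x u v, hB y u v])
        commutes' := fun c => Subtype.ext (huniq _ (algebraMap F MM c) fun u v => by
          simp only [Algebra.algebraMap_eq_smul_one, SetLike.val_smul, OneMemClass.coe_one, Matrix.smul_mulVec,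
            Matrix.one_mulVec, map_smul, LinearMap.smul_apply]) }
    let g : K ≃ₐ[F] K := AlgEquiv.ofBijective φ φ.bijective
    have hg2 : g * g = 1 := AlgEquiv.ext fun k => Subtype.ext (huniq (φ k) k (hB k).symm)
    have hcard : Nat.card (K ≃ₐ[F] K) = 5 := by rw [IsGalois.card_aut_eq_finrank, hrank]
    have hg1 : g = 1 := by
      have h1 : orderOf g ∣ 2 := orderOf_dvd_of_pow_eq_one (by rw [pow_two, hg2])
      have h2 : orderOf g ∣ 5 := hcard ▸ orderOf_dvd_natCard g
      exact orderOf_eq_one_iff.mp (Nat.eq_one_of_dvd_coprimes (show Nat.Coprime 2 5 by norm_num) h1 h2)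
    intro k u v
    have h : a k = (k : MM) := congrArg (fun g : K ≃ₐ[F] K => ((g k : K) : MM)) hg1
    have h2 := hB k u v
    rwa [h] at h2
  -- every element is a difference of squares
  have hsq : ∀ l : K, ∃ μ ν : K, μ * μ - ν * ν = l := by
    intro l
    by_cases h2 : (2 : K) = 0
    · haveI : CharP K 2 := CharTwo.of_one_ne_zero_of_two_eq_zero one_ne_zero h2
      obtain ⟨z, hz⟩ := FiniteField.isSquare_of_char_two (ringChar.eq K 2) l
      exact ⟨z, 0, by rw [mul_zero, sub_zero, hz]⟩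
    · refine ⟨(l + 1) / 2, (l - 1) / 2, ?_⟩
      have h4 : (4 : K) ≠ 0 := by
        rw [show (4 : K) = 2 * 2 by norm_num]
        exact mul_ne_zero h2 h2
      field_simp
      ring
  have hiso : ∀ h ∈ H, h ∈ Cfsg.isometryGroup F ⇑Q := fun h hh => Orth.omegaGL_le_isometry (hΩ hh)
  -- evaluation
  let ev : VV → (K →ₗ[F] VV) := fun e =>
    { toFun := fun x => (x : MM) *ᵥ e
      map_add' := fun x y => by simp [Matrix.add_mulVec]
      map_smul' := fun c x => by simp [Matrix.smul_mulVec] }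
  have hev : ∀ (e : VV) (x : K), ev e x = (x : MM) *ᵥ e := fun _ _ => rfl
  have hevmul : ∀ (e : VV) (x y : K), (x : MM) *ᵥ ev e y = ev e (x * y) := fun e x y => by
    rw [hev, hev, Matrix.mulVec_mulVec, Subalgebra.coe_mul]
  have hevinj : ∀ (e : VV), e ≠ 0 → Function.Injective (ev e) := fun e he => by
    refine (injective_iff_map_eq_zero _).mpr fun x hx => ?_
    by_contra hx0
    refine he ?_
    have h := hevmul e x⁻¹ x
    rw [hx, Matrix.mulVec_zero, inv_mul_cancel₀ hx0, hev, OneMemClass.coe_one, Matrix.one_mulVec] at h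
    exact h.symm
  -- no invariant totally singular subspace of dimension five
  have hts : ∀ U : Submodule F VV, (∀ u ∈ U, Q u = 0) → (∀ (k : K), ∀ u ∈ U, (k : MM) *ᵥ u ∈ U) →
      finrank F U ≠ 5 := by
    intro U hU hKU hU5
    have hline : ∀ W : Submodule F VV, (∀ (k : K), ∀ u ∈ W, (k : MM) *ᵥ u ∈ W) → finrank F W = 5 →
        ∀ w ∈ W, w ≠ 0 → W = LinearMap.range (ev w) := fun W hKW hW5 w hw hw0 => by
      refine (Submodule.eq_of_le_of_finrank_eq ?_ ?_).symm
      · rintro _ ⟨x, rfl⟩; exact hKW x w hw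
      · rw [LinearMap.finrank_range_of_inj (hevinj w hw0), hrank, hW5]
    have hcompl : ∀ W₁ W₂ : Submodule F VV, (∀ (k : K), ∀ u ∈ W₁, (k : MM) *ᵥ u ∈ W₁) → finrank F W₁ = 5 →
        (∀ (k : K), ∀ u ∈ W₂, (k : MM) *ᵥ u ∈ W₂) → finrank F W₂ = 5 → W₁ ≠ W₂ → IsCompl W₁ W₂ := by
      intro W₁ W₂ k1 d1 k2 d2 hne
      have hinf : W₁ ⊓ W₂ = ⊥ := by
        refine (Submodule.eq_bot_iff _).mpr fun w hw => ?_
        by_contra hw0
        exact hne ((hline W₁ k1 d1 w hw.1 hw0).trans (hline W₂ k2 d2 w hw.2 hw0).symm)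
      refine IsCompl.of_eq hinf (Submodule.eq_top_of_finrank_eq ?_)
      have e := Submodule.finrank_sup_add_finrank_inf_eq W₁ W₂
      rw [hinf, finrank_bot, add_zero, d1, d2] at e
      rw [e, Module.finrank_fin_fun]
    have hthree : ∀ W₁ W₂ W₃ : Submodule F VV, (∀ u ∈ W₁, Q u = 0) → (∀ u ∈ W₂, Q u = 0) → (∀ u ∈ W₃, Q u = 0) →
        (∀ (k : K), ∀ u ∈ W₁, (k : MM) *ᵥ u ∈ W₁) → (∀ (k : K), ∀ u ∈ W₂, (k : MM) *ᵥ u ∈ W₂) →
        (∀ (k : K), ∀ u ∈ W₃, (k : MM) *ᵥ u ∈ W₃) → finrank F W₁ = 5 → finrank F W₂ = 5 → finrank F W₃ = 5 →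
        W₁ ≠ W₂ → W₃ = W₁ ∨ W₃ = W₂ := by
      intro W₁ W₂ W₃ t1 t2 t3 k1 k2 k3 d1 d2 d3 hne
      have hc := hcompl W₁ W₂ k1 d1 k2 d2 hne
      obtain ⟨z, hz, hz0⟩ := (Submodule.ne_bot_iff W₃).mp fun h => by rw [h, finrank_bot] at d3; omega
      obtain ⟨u, hu, w, hw, rfl⟩ := Submodule.mem_sup.1 (hc.sup_eq_top.ge (Submodule.mem_top : z ∈ ⊤))
      by_cases hu0 : u = 0
      · right
        subst hu0
        rw [zero_add] at hz hz0
        exact (hline W₃ k3 d3 w hz hz0).trans (hline W₂ k2 d2 w hw hz0).symm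
      by_cases hw0 : w = 0
      · left
        subst hw0
        rw [add_zero] at hz hz0
        exact (hline W₃ k3 d3 u hz hz0).trans (hline W₁ k1 d1 u hu hz0).symm
      exfalso
      have hkk : ∀ k : K, B ((k : MM) *ᵥ ((k : MM) *ᵥ u)) w = 0 := fun k => by
        rw [hsa]
        have h := QuadraticMap.map_add (⇑Q) ((k : MM) *ᵥ u) ((k : MM) *ᵥ w)
        rw [← Matrix.mulVec_add, t3 _ (k3 k _ hz), t1 _ (k1 k u hu), t2 _ (k2 k w hw), zero_add, zero_add] at h
        exact h.symm
      refine hw0 (hQ.nd.2 w fun v => ?_)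
      obtain ⟨a, ha, b, hb, rfl⟩ := Submodule.mem_sup.1 (hc.sup_eq_top.ge (Submodule.mem_top : v ∈ ⊤))
      rw [hline W₁ k1 d1 u hu hu0] at ha
      obtain ⟨x, rfl⟩ := ha
      obtain ⟨μ, ν, rfl⟩ := hsq x
      rw [map_add, LinearMap.add_apply, Geometry.polar_eq_zero_of_singular Q t2 b hb w hw, add_zero, hev,
        Subalgebra.coe_sub, Matrix.sub_mulVec, Subalgebra.coe_mul, Subalgebra.coe_mul, ← Matrix.mulVec_mulVec,
        ← Matrix.mulVec_mulVec, map_sub, LinearMap.sub_apply, hkk, hkk, sub_zero]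
    let img : GL (Fin 10) F → Submodule F VV → Submodule F VV := fun g W => W.map (Matrix.toLin' (g : MM))
    have himg : ∀ (g : GL (Fin 10) F) (W : Submodule F VV), ∀ v ∈ W, (g : MM) *ᵥ v ∈ img g W := fun g W v hv =>
      ⟨v, hv, Matrix.toLin'_apply _ _⟩
    have hginj : ∀ g : GL (Fin 10) F, Function.Injective (Matrix.toLin' (g : MM)) := fun g x y h => by
      rw [Matrix.toLin'_apply, Matrix.toLin'_apply] at h
      have := congrArg (((g⁻¹ : GL (Fin 10) F) : MM) *ᵥ ·) h
      simpa [Matrix.mulVec_mulVec, -Matrix.coe_units_inv] using this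
    have himgS : ∀ g ∈ H, ∀ W : Submodule F VV, (∀ u ∈ W, Q u = 0) → (∀ (k : K), ∀ u ∈ W, (k : MM) *ᵥ u ∈ W) →
        finrank F W = 5 → (∀ u ∈ img g W, Q u = 0) ∧ (∀ (k : K), ∀ u ∈ img g W, (k : MM) *ᵥ u ∈ img g W) ∧
          finrank F (img g W) = 5 := by
      intro g hg W t k d
      refine ⟨?_, ?_, (Submodule.equivMapOfInjective _ (hginj g) W).finrank_eq.symm.trans d⟩
      · rintro _ ⟨u, hu, rfl⟩
        rw [Matrix.toLin'_apply, Orth.iso_quad (hiso g hg), t u hu]
      · rintro x _ ⟨u, hu, rfl⟩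
        have hk : ((g⁻¹ : GL (Fin 10) F) : MM) * (x : MM) * (g : MM) ∈ K := by
          simpa using (hnor _ (H.inv_mem hg) (x : MM)).mp x.2
        rw [Matrix.toLin'_apply, Matrix.mulVec_mulVec, show (x : MM) * (g : MM) =
          (g : MM) * (((g⁻¹ : GL (Fin 10) F) : MM) * (x : MM) * (g : MM)) by simp [mul_assoc], ← Matrix.mulVec_mulVec]
        exact himg g W _ (k ⟨_, hk⟩ u hu)
    by_cases hfix : ∀ g ∈ H, img g U = U
    · rcases (TwoPrimeDim.actsIrreducibly_iff H).mp hirr U fun g hg w hw => by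
          exact (hfix g hg) ▸ himg g U w hw with h | h
      · rw [h, finrank_bot] at hU5; omega
      · rw [h, finrank_top, Module.finrank_fin_fun] at hU5; omega
    push Not at hfix
    obtain ⟨g, hg, hgU⟩ := hfix
    obtain ⟨t2, k2, d2⟩ := himgS g hg U hU hKU hU5
    obtain ⟨t3, k3, d3⟩ := himgS g hg (img g U) t2 k2 d2
    have h3 : img g (img g U) = U := by
      rcases hthree U (img g U) _ hU t2 t3 hKU k2 k3 hU5 d2 d3 (Ne.symm hgU) with h | h
      · exact h
      · exact absurd (Submodule.map_injective_of_injective (hginj g) h) hgU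
    exact OrthAny.swap_not_mem_omega hQ.nd (by simp) (hcompl U (img g U) hKU hU5 k2 d2 (Ne.symm hgU)) hU t2
      (by rw [hU5]; decide) (hΩ hg) (himg g U) fun u hu => by rw [← h3]; exact himg g _ u hu
  -- a two dimensional basis over the field
  obtain ⟨e1, he1⟩ : ∃ e : VV, e ≠ 0 := exists_ne 0
  obtain ⟨e2, he2⟩ : ∃ e : VV, e ∉ LinearMap.range (ev e1) := by
    by_contra hc
    push Not at hc
    have h := (ev e1).finrank_range_le
    rw [LinearMap.range_eq_top.mpr fun v => hc v, finrank_top, Module.finrank_fin_fun, hrank] at h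
    omega
  let φ0 : (K × K) →ₗ[F] VV := (ev e1).coprod (ev e2)
  have hφinj : Function.Injective φ0 := by
    refine (injective_iff_map_eq_zero _).mpr fun p hp => ?_
    obtain ⟨x, y⟩ := p
    change ev e1 x + ev e2 y = 0 at hp
    by_cases hy : y = 0
    · rw [hy, map_zero, add_zero] at hp
      rw [hy, hevinj e1 he1 (hp.trans (map_zero _).symm)]
      rfl
    · refine absurd ⟨-(y⁻¹ * x), ?_⟩ he2
      have h := congrArg (fun v => (((y⁻¹ : K)) : MM) *ᵥ v) hp
      simp only [Matrix.mulVec_add, hevmul, Matrix.mulVec_zero, inv_mul_cancel₀ hy] at h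
      rw [show ev e2 1 = e2 by rw [hev, OneMemClass.coe_one, Matrix.one_mulVec]] at h
      rw [map_neg]
      exact (eq_neg_of_add_eq_zero_right h).symm
  let φ : (K × K) ≃ₗ[F] VV := LinearEquiv.ofBijective φ0 ⟨hφinj, by
    refine (LinearMap.injective_iff_surjective_of_finrank_eq_finrank ?_).mp hφinj
    rw [Module.finrank_prod, hrank, Module.finrank_fin_fun]⟩
  have hφ : ∀ p : K × K, φ p = ev e1 p.1 + ev e2 p.2 := fun p => rfl
  have hact : ∀ (x : K) (p : K × K), (x : MM) *ᵥ φ p = φ (x * p.1, x * p.2) := fun x p => by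
    rw [hφ, hφ, Matrix.mulVec_add, hevmul, hevmul]
  have hext : ∀ A C : MM, (∀ p, A *ᵥ φ p = C *ᵥ φ p) → A = C := fun A C h =>
    Matrix.ext_of_mulVec_single fun j => by
      obtain ⟨p, hp⟩ := φ.surjective (Pi.single j 1)
      rw [← hp]
      exact h p
  -- duality
  obtain ⟨θ, x₀, hθ⟩ : ∃ (θ : K →ₗ[F] F) (x₀ : K), θ x₀ ≠ 0 := by
    let b := Module.finBasis F K
    have hpos : 0 < Module.finrank F K := by omega
    refine ⟨b.coord ⟨0, hpos⟩, b ⟨0, hpos⟩, ?_⟩
    rw [Module.Basis.coord_apply, b.repr_self, Finsupp.single_eq_same]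
    exact one_ne_zero
  let R : K →ₗ[F] (K →ₗ[F] F) := (LinearMap.mul F K).compr₂ θ
  have hR : ∀ x y : K, R x y = θ (x * y) := fun _ _ => rfl
  have hRinj : ∀ a : K, (∀ y, θ (a * y) = 0) → a = 0 := fun a h => by
    by_contra ha
    refine hθ ?_
    have h' := h (a⁻¹ * x₀)
    rwa [mul_inv_cancel_left₀ ha] at h'
  have hRsurj : Function.Surjective R := by
    refine (LinearMap.injective_iff_surjective_of_finrank_eq_finrank (Subspace.dual_finrank_eq (K := F) (V := K)).symm).mp ?_
    exact (injective_iff_map_eq_zero _).mpr fun a ha => hRinj a fun y => by rw [← hR, ha]; rfl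
  have hquad : ∀ e : VV, ∃ a : K, ∀ x : K, Q (ev e x) = θ (a * (x * x)) := by
    intro e
    by_cases h2 : (2 : F) = 0
    · haveI : CharP F 2 := CharTwo.of_one_ne_zero_of_two_eq_zero one_ne_zero h2
      haveI : CharP K 2 := charP_of_injective_algebraMap (algebraMap F K).injective 2
      have hz0 : ∀ x : K, B (ev e x) (ev e x) = 0 := fun x => by rw [quad_polar_self, h2, zero_mul]
      choose r hr using fun x : K => FiniteField.isSquare_of_char_two (ringChar.eq K 2) x
      have hinj : ∀ a b : K, a * a = b * b → a = b := fun a b h => by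
        rcases mul_self_eq_mul_self_iff.mp h with h | h
        · exact h
        · rwa [CharTwo.neg_eq] at h
      have hradd : ∀ x y, r (x + y) = r x + r y := fun x y => hinj _ _ (by
        rw [← hr, CharTwo.add_mul_self, ← hr, ← hr])
      let L : K →ₗ[F] F :=
        { toFun := fun x => Q (ev e (r x))
          map_add' := fun x y => by
            have hp : Q (ev e (r x) + ev e (r y)) = Q (ev e (r x)) + Q (ev e (r y)) + B (ev e (r x)) (ev e (r y)) :=
              QuadraticMap.map_add (⇑Q) _ _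
            have hb : B (ev e (r x)) (ev e (r y)) = 0 := by
              obtain ⟨z, hz⟩ := FiniteField.isSquare_of_char_two (ringChar.eq K 2) (r x * r y)
              have h1 : B (ev e (r x)) (ev e (r y)) = B e (ev e (r x * r y)) := by
                rw [hev e (r x), hsa, hevmul]
              rw [h1, hz, ← hevmul, ← hsa, ← hev]
              exact hz0 z
            rw [hradd, map_add, hp, hb, add_zero]
          map_smul' := fun c x => by
            obtain ⟨d, hd⟩ := FiniteField.isSquare_of_char_two (ringChar.eq F 2) c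
            have h : r (c • x) = d • r x := hinj _ _ (by
              rw [← hr, smul_mul_smul_comm, ← hd, ← hr])
            rw [h, map_smul, quad_smul, ← hd]
            rfl }
      obtain ⟨a, ha⟩ := hRsurj L
      refine ⟨a, fun x => ?_⟩
      rw [← hR, ha]
      show Q (ev e x) = Q (ev e (r (x * x)))
      rw [hinj (r (x * x)) x (hr (x * x)).symm]
    · obtain ⟨a, ha⟩ := hRsurj ((2 : F)⁻¹ • (B e).comp (ev e))
      refine ⟨a, fun x => ?_⟩
      rw [← hR, ha, LinearMap.smul_apply, LinearMap.comp_apply, ← hevmul, ← hsa, ← hev, quad_polar_self,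
        smul_eq_mul, inv_mul_cancel_left₀ h2]
  obtain ⟨a, ha⟩ := hquad e1
  obtain ⟨c, hc⟩ := hquad e2
  obtain ⟨β, hβ⟩ := hRsurj ((B e1).comp (ev e2))
  have hQ0 : ∀ p : K × K, Q (φ p) = θ (a * (p.1 * p.1) + β * (p.1 * p.2) + c * (p.2 * p.2)) := by
    intro p
    have hp : Q (ev e1 p.1 + ev e2 p.2) = Q (ev e1 p.1) + Q (ev e2 p.2) + B (ev e1 p.1) (ev e2 p.2) :=
      QuadraticMap.map_add (⇑Q) _ _
    have hb : B (ev e1 p.1) (ev e2 p.2) = θ (β * (p.1 * p.2)) := by
      rw [← hR, hβ, LinearMap.comp_apply, hev e1, hsa, hevmul]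
    rw [hφ, hp, ha, hc, hb, map_add, map_add]
    abel
  -- anisotropy
  have hani : ∀ x y : K, a * (x * x) + β * (x * y) + c * (y * y) = 0 → x = 0 ∧ y = 0 := by
    intro x y h0
    by_contra hne
    let ψ : K →ₗ[F] VV := φ.toLinearMap.comp ((LinearMap.mulRight F x).prod (LinearMap.mulRight F y))
    have hψ : Function.Injective ψ := (injective_iff_map_eq_zero _).mpr fun z hz => by
      have h : (z * x, z * y) = (0 : K × K) := φ.injective (hz.trans (map_zero φ).symm)
      have h1 : z * x = 0 := congrArg Prod.fst h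
      have h2 : z * y = 0 := congrArg Prod.snd h
      by_contra hz0
      exact hne ⟨(mul_eq_zero.mp h1).resolve_left hz0, (mul_eq_zero.mp h2).resolve_left hz0⟩
    refine hts (LinearMap.range ψ) ?_ ?_ ?_
    · rintro _ ⟨z, rfl⟩
      show Q (φ (z * x, z * y)) = 0
      rw [hQ0]
      dsimp only
      rw [show a * (z * x * (z * x)) + β * (z * x * (z * y)) + c * (z * y * (z * y)) =
        (z * z) * (a * (x * x) + β * (x * y) + c * (y * y)) by ring, h0, mul_zero, map_zero]
    · rintro k _ ⟨z, rfl⟩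
      refine ⟨k * z, ?_⟩
      show φ (k * z * x, k * z * y) = (k : MM) *ᵥ φ (z * x, z * y)
      rw [hact, mul_assoc, mul_assoc]
    · rw [LinearMap.finrank_range_of_inj hψ, hrank]
  have ha0 : a ≠ 0 := fun h => one_ne_zero (hani 1 0 (by rw [h]; ring)).1
  obtain ⟨s, hs⟩ : ∃ s : K, a * s = β := ⟨a⁻¹ * β, mul_inv_cancel_left₀ ha0 β⟩
  obtain ⟨t, ht⟩ : ∃ t : K, a * t = c := ⟨a⁻¹ * c, mul_inv_cancel_left₀ ha0 c⟩
  have hQN : ∀ p : K × K, Q (φ p) = θ (a * (p.1 * p.1 + s * (p.1 * p.2) + t * (p.2 * p.2))) := fun p => by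
    rw [hQ0, ← hs, ← ht]
    congr 1
    ring
  have hN0 : ∀ x y : K, x * x + s * (x * y) + t * (y * y) = 0 → x = 0 ∧ y = 0 := fun x y h => hani x y (by
    rw [← hs, ← ht]; linear_combination a * h)
  have hdisc : 4 * t - s * s ≠ 0 := by
    intro h
    by_cases h2 : (2 : K) = 0
    · have hs0 : s = 0 := mul_self_eq_zero.mp (by linear_combination -h + 2 * t * h2)
      haveI : CharP K 2 := CharTwo.of_one_ne_zero_of_two_eq_zero one_ne_zero h2
      obtain ⟨z, hz⟩ := FiniteField.isSquare_of_char_two (ringChar.eq K 2) t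
      exact one_ne_zero (hN0 z 1 (by linear_combination z * hs0 + z * z * h2 + hz)).2
    · obtain ⟨z, hz⟩ : ∃ z : K, 2 * z = -s := ⟨2⁻¹ * -s, mul_inv_cancel_left₀ h2 _⟩
      refine one_ne_zero (hN0 z 1 (mul_left_cancel₀ (mul_ne_zero h2 h2) ?_)).2
      linear_combination (2 * z + s) * hz + h
  have hBN : ∀ p r : K × K, B (φ p) (φ r) =
      θ (a * (2 * (p.1 * r.1) + s * (p.1 * r.2 + p.2 * r.1) + 2 * t * (p.2 * r.2))) := fun p r => by
    show Q (φ p + φ r) - Q (φ p) - Q (φ r) = _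
    rw [← map_add, hQN, hQN, hQN, ← map_sub, ← map_sub]
    congr 1
    dsimp only [Prod.fst_add, Prod.snd_add]
    ring
  -- the generator
  let L0 : (K × K) →ₗ[F] (K × K) :=
    (-(LinearMap.mulLeft F t).comp (LinearMap.snd F K K)).prod
      (LinearMap.fst F K K + (LinearMap.mulLeft F s).comp (LinearMap.snd F K K))
  let Ω : MM := LinearMap.toMatrix' (φ.toLinearMap ∘ₗ L0 ∘ₗ φ.symm.toLinearMap)
  have hΩ : ∀ p : K × K, Ω *ᵥ φ p = φ (-(t * p.2), p.1 + s * p.2) := fun p => by
    rw [← Matrix.toLin'_apply Ω, Matrix.toLin'_toMatrix']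
    show φ (L0 (φ.symm (φ p))) = _
    rw [φ.symm_apply_apply]
    rfl
  let el : K → K → MM := fun x y => (x : MM) + (y : MM) * Ω
  have hel : ∀ (x y : K) (p : K × K),
      el x y *ᵥ φ p = φ (x * p.1 - y * (t * p.2), y * p.1 + (x + y * s) * p.2) := fun x y p => by
    show ((x : MM) + (y : MM) * Ω) *ᵥ φ p = _
    rw [Matrix.add_mulVec, ← Matrix.mulVec_mulVec, hΩ, hact, hact, ← map_add]
    congr 1
    ext1 <;> dsimp only [Prod.fst_add, Prod.snd_add] <;> ring
  have helK : ∀ (x y : K) (k : K), (k : MM) * el x y = el x y * (k : MM) := fun x y k => by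
    refine hext _ _ fun p => ?_
    rw [← Matrix.mulVec_mulVec, ← Matrix.mulVec_mulVec, hel, hact, hact, hel]
    congr 1
    ext1 <;> dsimp only <;> ring
  have hmul : ∀ x y x' y' : K,
      el x y * el x' y' = el (x * x' - t * (y * y')) (x * y' + y * x' + s * (y * y')) := fun x y x' y' => by
    refine hext _ _ fun p => ?_
    rw [← Matrix.mulVec_mulVec, hel, hel, hel]
    congr 1
    ext1 <;> dsimp only <;> ring
  have hadd : ∀ x y x' y' : K, el x y + el x' y' = el (x + x') (y + y') := fun x y x' y' => by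
    simp only [el, Subalgebra.coe_add, add_mul]
    abel
  have hel0 : ∀ x : K, el x 0 = (x : MM) := fun x => by
    simp only [el, ZeroMemClass.coe_zero, zero_mul, add_zero]
  let E : Subalgebra F MM :=
    { carrier := {M | ∃ x y : K, M = el x y}
      mul_mem' := fun {M N} hM hN => by
        obtain ⟨x, y, rfl⟩ := hM
        obtain ⟨x', y', rfl⟩ := hN
        exact ⟨_, _, hmul x y x' y'⟩
      one_mem' := ⟨1, 0, (hel0 1).symm⟩
      add_mem' := fun {M N} hM hN => by
        obtain ⟨x, y, rfl⟩ := hM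
        obtain ⟨x', y', rfl⟩ := hN
        exact ⟨_, _, hadd x y x' y'⟩
      zero_mem' := ⟨0, 0, (hel0 0).symm⟩
      algebraMap_mem' := fun r => ⟨algebraMap F K r, 0, by rw [hel0]; rfl⟩ }
  have hmem : ∀ M, M ∈ E ↔ ∃ x y : K, M = el x y := fun M => Iff.rfl
  have hinjel : ∀ x y : K, el x y = 0 → x = 0 ∧ y = 0 := fun x y h => by
    have h' := hel x y (1, 0)
    rw [h, Matrix.zero_mulVec] at h'
    have h'' := φ.injective (h'.symm.trans (map_zero φ).symm)
    have h1 : x * 1 - y * (t * 0) = 0 := congrArg Prod.fst h''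
    have h2 : y * 1 + (x + y * s) * 0 = 0 := congrArg Prod.snd h''
    constructor
    · linear_combination h1
    · linear_combination h2
  -- adjoints
  have hEadj : ∀ x y : K, ∀ u v, B (el x y *ᵥ u) v = B u (el (x + s * y) (-y) *ᵥ v) := fun x y u v => by
    obtain ⟨p, rfl⟩ := φ.surjective u
    obtain ⟨r, rfl⟩ := φ.surjective v
    rw [hel, hel, hBN, hBN]
    congr 1
    dsimp only
    ring
  -- recognition
  have hchar : ∀ M : MM, (∀ k : K, (k : MM) * M = M * (k : MM)) →
      (∃ μ ν : K, ∀ v, B (M *ᵥ v) v = Q ((μ : MM) *ᵥ v) - Q ((ν : MM) *ᵥ v)) → M ∈ E := by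
    intro M hMK ⟨μ, ν, hμν⟩
    set p1 := φ.symm (M *ᵥ φ (1, 0)) with hp1
    set p2 := φ.symm (M *ᵥ φ (0, 1)) with hp2
    have hM : ∀ q : K × K, M *ᵥ φ q = φ (q.1 * p1.1 + q.2 * p2.1, q.1 * p1.2 + q.2 * p2.2) := fun q => by
      have h1 : φ q = (q.1 : MM) *ᵥ φ (1, 0) + (q.2 : MM) *ᵥ φ (0, 1) := by
        rw [hact, hact, ← map_add]
        congr 1
        ext1 <;> simp
      rw [h1, Matrix.mulVec_add, Matrix.mulVec_mulVec, Matrix.mulVec_mulVec, ← hMK, ← hMK, ← Matrix.mulVec_mulVec,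
        ← Matrix.mulVec_mulVec, ← φ.apply_symm_apply (M *ᵥ φ (1, 0)), ← φ.apply_symm_apply (M *ᵥ φ (0, 1)),
        ← hp1, ← hp2, hact, hact, ← map_add]
      rfl
    set l := μ * μ - ν * ν with hl
    set A := 2 * p1.1 + s * p1.2 - l with hA
    set C := s * p2.1 + 2 * t * p2.2 - l * t with hC
    set D := 2 * p2.1 + s * p1.1 + s * p2.2 + 2 * t * p1.2 - l * s with hD
    have hG : ∀ q : K × K, θ (a * (A * (q.1 * q.1) + D * (q.1 * q.2) + C * (q.2 * q.2))) = 0 := fun q => by
      have h := hμν (φ q)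
      rw [hM, hBN, hact, hact, hQN, hQN, ← map_sub, ← sub_eq_zero, ← map_sub] at h
      rw [← h]
      congr 1
      rw [hA, hC, hD, hl]
      dsimp only
      ring
    have hz : ∀ X : K, (∀ x, θ (a * (X * (x * x))) = 0) → X = 0 := fun X hX => by
      refine (mul_eq_zero.mp (hRinj (a * X) fun y => ?_)).resolve_left ha0
      obtain ⟨m, n, rfl⟩ := hsq y
      rw [show a * X * (m * m - n * n) = a * (X * (m * m)) - a * (X * (n * n)) by ring, map_sub, hX, hX, sub_zero]
    have hA0 : A = 0 := hz A fun x => by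
      have h := hG (x, 0)
      rw [← h]
      congr 1
      dsimp only
      ring
    have hC0 : C = 0 := hz C fun x => by
      have h := hG (0, x)
      rw [← h]
      congr 1
      dsimp only
      ring
    have hD0 : D = 0 := by
      refine (mul_eq_zero.mp (hRinj (a * D) fun y => ?_)).resolve_left ha0
      have h := hG (y, 1)
      rw [← h, hA0, hC0]
      congr 1
      dsimp only
      ring
    have hU : p2.1 + t * p1.2 = 0 := by
      refine (mul_eq_zero.mp (?_ : (4 * t - s * s) * (p2.1 + t * p1.2) = 0)).resolve_left hdisc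
      linear_combination (2 * t) * (hD0) + (-s) * hC0 + (t * s - 2 * t * s) * hA0
    have hW : p2.2 - p1.1 - s * p1.2 = 0 := by
      refine (mul_eq_zero.mp (?_ : (4 * t - s * s) * (p2.2 - p1.1 - s * p1.2) = 0)).resolve_left hdisc
      linear_combination 2 * hC0 + (-s) * hD0 + (s * s - 2 * t) * hA0
    refine ⟨p1.1, p1.2, hext _ _ fun q => ?_⟩
    rw [hM, hel]
    congr 1
    ext1 <;> dsimp only
    · linear_combination q.2 * hU
    · linear_combination q.2 * hW
  have hconj : ∀ h ∈ H, ∀ M ∈ E, (h : MM) * M * ((h⁻¹ : GL (Fin 10) F) : MM) ∈ E := by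
    intro h hh M hM
    obtain ⟨x, y, rfl⟩ := (hmem M).mp hM
    refine hchar _ (fun k => ?_) ?_
    · have hk : ((h⁻¹ : GL (Fin 10) F) : MM) * (k : MM) * (h : MM) ∈ K := by
        simpa using (hnor _ (H.inv_mem hh) (k : MM)).mp k.2
      have h1 := helK x y ⟨_, hk⟩
      have h2 := congrArg (fun X => (h : MM) * X * ((h⁻¹ : GL (Fin 10) F) : MM)) h1
      simpa [mul_assoc] using h2
    · obtain ⟨μ, ν, hμν⟩ := hsq (2 * x + y * s)
      refine ⟨⟨_, (hnor h hh (μ : MM)).mp μ.2⟩, ⟨_, (hnor h hh (ν : MM)).mp ν.2⟩, fun v => ?_⟩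
      set w := ((h⁻¹ : GL (Fin 10) F) : MM) *ᵥ v with hw
      have hv : v = (h : MM) *ᵥ w := by
        rw [hw, Matrix.mulVec_mulVec, ← Units.val_mul, mul_inv_cancel, Units.val_one, Matrix.one_mulVec]
      have hc : ∀ X : MM, ((h : MM) * X * ((h⁻¹ : GL (Fin 10) F) : MM)) *ᵥ v = (h : MM) *ᵥ (X *ᵥ w) := fun X => by
        rw [hw, Matrix.mulVec_mulVec, Matrix.mulVec_mulVec, mul_assoc]
      show B _ v = Q _ - Q _
      rw [hc, hc, hc, Orth.iso_quad (hiso h hh), Orth.iso_quad (hiso h hh), hv, Orth.iso_polar (hiso h hh)]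
      obtain ⟨q, hq⟩ := φ.surjective w
      rw [← hq, hel, hBN, hact, hact, hQN, hQN, ← map_sub]
      congr 1
      dsimp only
      linear_combination -(a * (q.1 * q.1 + s * (q.1 * q.2) + t * (q.2 * q.2))) * hμν
  refine ⟨E, ⟨?_, ?_, ?_⟩, ?_, fun h hh k => ⟨fun hk => hconj h hh k hk, fun hk => ?_⟩⟩
  · intro M hM N hN
    obtain ⟨x, y, rfl⟩ := (hmem M).mp hM
    obtain ⟨x', y', rfl⟩ := (hmem N).mp hN
    rw [hmul, hmul]
    congr 1 <;> ring
  · intro M hM hM0
    obtain ⟨x, y, rfl⟩ := (hmem M).mp hM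
    have hn : x * x + s * (x * y) + t * (y * y) ≠ 0 := fun h => by
      obtain ⟨hx, hy⟩ := hN0 x y h
      exact hM0 (by rw [hx, hy, hel0]; rfl)
    obtain ⟨z, hz⟩ : ∃ z, (x * x + s * (x * y) + t * (y * y)) * z = 1 := ⟨_, mul_inv_cancel₀ hn⟩
    refine ⟨el ((x + s * y) * z) (-(y * z)), (hmem _).mpr ⟨_, _, rfl⟩, ?_⟩
    rw [hmul, show x * ((x + s * y) * z) - t * (y * -(y * z)) = 1 by rw [← hz]; ring,
      show x * -(y * z) + y * ((x + s * y) * z) + s * (y * -(y * z)) = 0 by ring, hel0]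
    rfl
  · let g : (K × K) →ₗ[F] E :=
      { toFun := fun p => ⟨el p.1 p.2, (hmem _).mpr ⟨_, _, rfl⟩⟩
        map_add' := fun p r => Subtype.ext (hadd p.1 p.2 r.1 r.2).symm
        map_smul' := fun r p => Subtype.ext (by
          show el (r • p.1) (r • p.2) = r • el p.1 p.2
          simp only [el, SetLike.val_smul, Matrix.smul_mul, smul_add]) }
    have hg : Function.Bijective g := by
      refine ⟨(injective_iff_map_eq_zero _).mpr fun p hp => ?_, fun M => ?_⟩
      · obtain ⟨h1, h2⟩ := hinjel p.1 p.2 (congrArg Subtype.val hp)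
        exact Prod.ext h1 h2
      · obtain ⟨x, y, hxy⟩ := (hmem _).mp M.2
        exact ⟨(x, y), Subtype.ext hxy.symm⟩
    rw [← (LinearEquiv.ofBijective g hg).finrank_eq, Module.finrank_prod, hrank]
  · intro M hM
    obtain ⟨x, y, rfl⟩ := (hmem M).mp hM
    exact ⟨el (x + s * y) (-y), (hmem _).mpr ⟨_, _, rfl⟩, hEadj x y⟩
  · have h1 := hconj h⁻¹ (H.inv_mem hh) _ hk
    simpa [mul_assoc] using h1

end Cfsg.Agent.Lib.PlusTen
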