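import Cfsg.Agent.Lib.PlusTen.Unitary
import Cfsg.Agent.Lib.PlusTen.FieldFive
import Cfsg.Agent.Lib.OrthAny.Proper
import Cfsg.Agent.Lib.MinusTen.Field

/-!
helper15, after helper20's proofs for minus type: a maximal subgroup of `Ω₁₀⁺(q)` normalising a field of matrices.
-/

set_option autoImplicit false
set_option linter.unusedSectionVars false
set_option linter.style.haveILetI false

namespace Cfsg.Agent.Lib.PlusTen

open Matrix Module Cfsg.Geo
open Cfsg.Agent.Lib.MaxSub
open Cfsg.Agent.Lib.Geometry (quad_polar_comm quad_polar_self quad_smul)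
open Cfsg.Agent.Lib.OrthNine.Adjoint (Adj)
open QuadraticMap (polarBilin)
open scoped MatrixGroups Matrix

attribute [-simp] QuadraticMap.polarBilin_apply_apply

variable {F : Type*} [Field F] [Fintype F] {Q : QuadraticForm F (Fin 10 → F)}

local notation "MM" => Matrix (Fin 10) (Fin 10) F
local notation "VV" => (Fin 10 → F)

variable {H : Subgroup (Matrix.GeneralLinearGroup (Fin 10) F)}

/-- A normalised adjoint closed field of degree two. -/
theorem two_cases (hQ : Plus Q) (hH : IsMaximalIn (omegaGL ⇑Q) H) (hirr : ActsIrreducibly (matrixSet H))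
    {K : Subalgebra F (Matrix (Fin 10) (Fin 10) F)} (hK : IsFieldSubalgebra 2 K)
    (hadj : IsAdjointClosedFor (QuadraticMap.polar ⇑Q) K) (hnor : ∀ h ∈ H, h ∈ subalgebraNormalizer K) :
    Cases Q H := by
  have heq : H = subalgebraNormalizer K ⊓ omegaGL ⇑Q :=
    PrimeDim.OrthProper.eq_inf_of_le hH (fun h hh => hnor h hh) (OrthAny.not_le_subalgebraNormalizer le_rfl hQ.nd (by simp) hK)
  obtain ⟨ω, s, t, hω, hsq, hroot, hall⟩ := MinusTen.field_gen hK
  have hsqv : ∀ x : VV, ω *ᵥ (ω *ᵥ x) = s • ω *ᵥ x + t • x := fun x => by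
    rw [Matrix.mulVec_mulVec, hsq, Matrix.add_mulVec, Matrix.smul_mulVec, Matrix.smul_mulVec, Matrix.one_mulVec]
  let B := polarBilin Q
  have hiso : ∀ h ∈ H, h ∈ Cfsg.isometryGroup F ⇑Q := fun h hh => Orth.omegaGL_le_isometry (hH.1.le hh)
  by_cases hsa : IsSelfAdjointFor (QuadraticMap.polar ⇑Q) K
  · by_cases hq : Odd (Fintype.card F)
    · exact Or.inr (Or.inr (Or.inr (Or.inr (Or.inr (Or.inr (Or.inr (Or.inr (Or.inr (Or.inr (Or.inl
        ⟨hq, K, hK, hsa, heq⟩))))))))))
    exfalso
    have h2 := MinusTen.two_zero_of_even hq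
    have hself : ∀ x, B x x = 0 := fun x => by rw [quad_polar_self, h2, zero_mul]
    have hskew : ∀ u v, B u v = - B v u := fun u v => by
      rw [quad_polar_comm Q v u, eq_neg_iff_add_eq_zero, ← two_mul, h2, zero_mul]
    have hz2 : ∀ v, B (ω *ᵥ v) v = 0 := by
      intro v
      letI : _root_.Field K := (MinusTen.field_isField hK).toField
      haveI : Finite K := Finite.of_injective (fun x : K => (x : MM)) Subtype.val_injective
      haveI : CharP F 2 := CharTwo.of_one_ne_zero_of_two_eq_zero one_ne_zero h2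
      haveI : CharP K 2 := charP_of_injective_algebraMap (algebraMap F K).injective 2
      obtain ⟨z, hz⟩ := FiniteField.isSquare_of_char_two (ringChar.eq K 2) (⟨ω, hω⟩ : K)
      have hks : ω = (z : MM) * z := congrArg Subtype.val hz
      have h := hsa _ z.2 ((z : MM) *ᵥ v) v
      rw [Matrix.mulVec_mulVec, ← hks] at h
      exact h.trans (hself _)
    have h4 := MinusTen.four_dvd_of_selfAdjoint B hskew hself hsq hroot (hsa ω hω) hz2 ⊤
      (fun x _ => trivial) fun x _ h => hQ.nd.2 x fun y => h y trivial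
    rw [finrank_top, Module.finrank_fin_fun] at h4
    omega
  obtain ⟨ω', hω', hadjω⟩ := hadj ω hω
  have hB : ∀ u v, B (ω *ᵥ u) v = B u (ω' *ᵥ v) := hadjω
  have hne : ω' ≠ ω := fun h => hsa fun k hk u v => by
    obtain ⟨a, b, rfl⟩ := hall k hk
    show B _ v = B u _
    have h1 := hB u v
    rw [h] at h1
    simp only [Matrix.add_mulVec, Matrix.smul_mulVec, Matrix.one_mulVec, map_add, map_smul, LinearMap.add_apply,
      LinearMap.smul_apply, h1]
  have hsq' : ω' * ω' = s • ω' + t • (1 : MM) := by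
    have ha : Adj Q (ω * ω) (ω' * ω') := Adj.mul hB hB
    rw [hsq] at ha
    refine OrthNine.Adjoint.Adj.unique hQ.nd ha fun u v => ?_
    simp only [Matrix.add_mulVec, Matrix.smul_mulVec, Matrix.one_mulVec, map_add, map_smul, LinearMap.add_apply,
      LinearMap.smul_apply]
    rw [← hB]
  have hroots : ∀ w ∈ K, w * w = s • w + t • (1 : MM) → w = ω ∨ w = s • (1 : MM) - ω := by
    intro w hw hwsq
    have hz : (w - ω) * (w - (s • (1 : MM) - ω)) = 0 := by
      have hc := hK.comm w hw ω hω
      simp only [sub_mul, mul_sub, Matrix.mul_smul, mul_one, hwsq, hsq, hc]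
      module
    by_cases h0 : w - ω = 0
    · exact Or.inl (sub_eq_zero.mp h0)
    obtain ⟨y, hy, hxy⟩ := hK.inv _ (K.sub_mem hw hω) h0
    have h' := congrArg (y * ·) hz
    simp only [← mul_assoc, mul_zero] at h'
    rw [hK.comm y hy _ (K.sub_mem hw hω), hxy, one_mul] at h'
    exact Or.inr (sub_eq_zero.mp h')
  have hω'eq : ω' = s • (1 : MM) - ω := (hroots ω' hω' hsq').resolve_left hne
  have hs2 : (2 : F) = 0 → s ≠ 0 := fun h2 h0 => by
    refine hne (hω'eq.trans ?_)
    rw [h0, zero_smul, zero_sub, neg_eq_iff_add_eq_zero, ← two_smul F, h2, zero_smul]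
  have hpol : ∀ u v, B (ω *ᵥ u) v + B (ω *ᵥ v) u = s * B u v := by
    intro u v
    rw [hB u v, quad_polar_comm Q (ω *ᵥ v) u, hω'eq]
    simp only [Matrix.sub_mulVec, Matrix.smul_mulVec, Matrix.one_mulVec, map_sub, map_smul, smul_eq_mul]
    ring
  have hD : ∀ v, B (ω *ᵥ v) v - s * Q v = 0 := by
    by_cases h2 : (2 : F) = 0
    · refine MinusTen.semilinear_zero hirr (fun v => B (ω *ᵥ v) v - s * Q v) (fun u v => ?_) (fun c v => ?_) ?_
      · have hpl : Q (u + v) = Q u + Q v + B u v := QuadraticMap.map_add (⇑Q) u v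
        have hp := hpol u v
        simp only [Matrix.mulVec_add, map_add, LinearMap.add_apply, hpl]
        linear_combination hp
      · simp only [Matrix.mulVec_smul, map_smul, LinearMap.smul_apply, smul_eq_mul, quad_smul]
        ring
      · intro h hh v
        have hg := hiso h hh
        have hk : ((h⁻¹ : GL (Fin 10) F) : MM) * ω * (h : MM) ∈ K := by
          simpa using (hnor _ (H.inv_mem hh) ω).mp hω
        set w := ((h⁻¹ : GL (Fin 10) F) : MM) * ω * (h : MM) with hw
        have hwsq : w * w = s • w + t • (1 : MM) := by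
          rw [hw]
          calc _ = ((h⁻¹ : GL (Fin 10) F) : MM) * (ω * ω) * (h : MM) := by simp [mul_assoc]
            _ = _ := by rw [hsq]; simp [mul_add, add_mul, ← Units.val_mul]
        show B (ω *ᵥ ((h : MM) *ᵥ v)) ((h : MM) *ᵥ v) - s * Q ((h : MM) *ᵥ v) = B (ω *ᵥ v) v - s * Q v
        rw [Orth.iso_quad hg]
        congr 1
        have hhw : ω *ᵥ ((h : MM) *ᵥ v) = (h : MM) *ᵥ (w *ᵥ v) := by
          rw [hw, Matrix.mulVec_mulVec, Matrix.mulVec_mulVec, ← mul_assoc, ← mul_assoc, ← Units.val_mul,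
            mul_inv_cancel, Units.val_one, one_mul]
        rw [hhw, Orth.iso_polar hg]
        rcases hroots w hk hwsq with e | e
        · rw [e]
        · rw [e, ← hω'eq, quad_polar_comm Q (ω' *ᵥ v) v]
          exact (hB v v).symm
    · intro v
      have h := hpol v v
      rw [quad_polar_self] at h
      refine mul_left_cancel₀ h2 ?_
      rw [mul_zero]
      linear_combination h
  have hQω : ∀ v, Q (ω *ᵥ v) = - t * Q v := by
    intro v
    have h1 : B (ω *ᵥ v) (ω *ᵥ v) = -t * B v v := by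
      rw [hB v (ω *ᵥ v), Matrix.mulVec_mulVec, hω'eq, sub_mul, Matrix.smul_mul, one_mul, hsq]
      simp only [Matrix.sub_mulVec, Matrix.add_mulVec, Matrix.smul_mulVec, Matrix.one_mulVec, map_sub, map_add,
        map_smul, smul_eq_mul]
      ring
    rw [quad_polar_self, quad_polar_self] at h1
    by_cases h2 : (2 : F) = 0
    · have h := hD (ω *ᵥ v)
      rw [hsqv] at h
      simp only [map_add, map_smul, LinearMap.add_apply, LinearMap.smul_apply, smul_eq_mul, quad_polar_self] at h
      rw [quad_polar_comm Q v (ω *ᵥ v), eq_add_of_sub_eq (hD v), zero_add] at h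
      refine mul_left_cancel₀ (hs2 h2) ?_
      have hbb : B (ω *ᵥ v) (ω *ᵥ v) = 2 * Q (ω *ᵥ v) := quad_polar_self Q _
      rw [hbb] at h
      linear_combination h
    · exact mul_left_cancel₀ h2 (by linear_combination h1)
  refine (no_unitary hQ ω (a := s) (b := -t) (fun x y h => ?_) (by rw [hsq, neg_smul, sub_neg_eq_add])
    (fun x y v => ?_) fun u v => ?_).elim
  · by_cases hy : y = 0
    · subst hy
      exact ⟨mul_self_eq_zero.mp (by linear_combination h), rfl⟩
    · exfalso
      refine hroot (-x / y) ?_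
      field_simp
      linear_combination h
  · have hd := hD v
    have hpl : Q (x • v + y • ω *ᵥ v) = Q (x • v) + Q (y • ω *ᵥ v) + B (x • v) (y • ω *ᵥ v) :=
      QuadraticMap.map_add (⇑Q) _ _
    rw [hpl, quad_smul, quad_smul, hQω]
    simp only [map_smul, LinearMap.smul_apply, smul_eq_mul]
    rw [quad_polar_comm Q v (ω *ᵥ v)]
    linear_combination (x * y) * hd
  · show B (ω *ᵥ u) v = B u _
    rw [hB, hω'eq, Matrix.sub_mulVec, Matrix.smul_mulVec, Matrix.one_mulVec]

/-- A maximal subgroup which is irreducible and normalises a field of matrices. -/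
theorem field_cases (hQ : Plus Q) (hH : IsMaximalIn (omegaGL ⇑Q) H) (hirr : ActsIrreducibly (matrixSet H)) {r : ℕ}
    {K : Subalgebra F (Matrix (Fin 10) (Fin 10) F)} (hK : IsFieldSubalgebra r K) (h1 : 1 < r) (hr : r ∣ 10)
    (hadj : IsAdjointClosedFor (QuadraticMap.polar ⇑Q) K) (hnor : ∀ h ∈ H, h ∈ subalgebraNormalizer K) :
    Cases Q H := by
  by_cases h2 : 2 ∣ r
  · obtain ⟨L, hL, hLa, hn⟩ := MinusTen.exists_quadratic_subfield hQ.nd (by omega) h2 hK hadj
    exact two_cases hQ hH hirr hL hLa fun h hh => hn (hnor h hh)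
  · obtain rfl : r = 5 := by
      have := Nat.le_of_dvd (by norm_num) hr
      interval_cases r <;> omega
    obtain ⟨E, hE, hEa, hEn⟩ := ten_of_five hQ hH.1.le hirr hK hadj hnor
    obtain ⟨L, hL, hLa, hn⟩ := MinusTen.exists_quadratic_subfield hQ.nd (by norm_num) (by norm_num) hE hEa
    exact two_cases hQ hH hirr hL hLa fun h hh => hn (hEn h hh)

end Cfsg.Agent.Lib.PlusTen
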