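import Cfsg.Agent.Lib.PlusTen.Unitary
import Cfsg.Agent.Lib.SympTwoPrime.Tensor
import Cfsg.Agent.Lib.SLTwoPrime.Algebra
import Cfsg.Agent.Lib.PrimeDim.FormDescent

/-!
A maximal subgroup of `Ω₁₀⁺(q)` has no homogeneous normal subgroup with two tensor factors.
-/

set_option autoImplicit false
set_option linter.unusedSectionVars false

namespace Cfsg.Agent.Lib.PlusTen

open Matrix Cfsg.Geo
open Cfsg.Agent.Lib.MaxTensor
open Cfsg.Agent.Lib.SympTwoPrime (exists_kronecker ext_dot alt_of_symm)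
open Cfsg.Agent.Lib.Geometry (quad_add quad_smul quad_polar_self quad_polar_comm)
open QuadraticMap (polarBilin)
open scoped MatrixGroups Matrix Kronecker

attribute [-simp] QuadraticMap.polarBilin_apply_apply

variable {F : Type*} [Field F] [Fintype F] {Q : QuadraticForm F (Fin 10 → F)}

/-- In odd characteristic no irreducible subgroup of `Ω₁₀⁺(q)` preserves a product of a binary and a quinary
symmetric form. -/
theorem false_of_product (hQ : Plus Q) {G : Subgroup (GL (Fin 10) F)} (hirr : ActsIrreducibly (matrixSet G))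
    (hG : G ≤ Cfsg.Geo.omegaGL ⇑Q) (h2 : (2 : F) ≠ 0)
    (P : (Fin 2 → F) →ₗ[F] (Fin 5 → F) →ₗ[F] (Fin 10 → F))
    {β : Matrix (Fin 2) (Fin 2) F} {γ : Matrix (Fin 5) (Fin 5) F} (hβu : IsUnit β) (hγu : IsUnit γ) (hβt : βᵀ = β)
    (hpol : ∀ u u' t t', polarBilin Q (P u t) (P u' t') = (u ⬝ᵥ β *ᵥ u') * (t ⬝ᵥ γ *ᵥ t'))
    (hP : ∀ t t', P (Pi.single 0 1) t + P (Pi.single 1 1) t' = 0 → t = 0 ∧ t' = 0)
    (hact : ∀ h ∈ G, ∃ (D : GL (Fin 2) F) (μ : F) (C : Matrix (Fin 5) (Fin 5) F),
      (D : Matrix (Fin 2) (Fin 2) F)ᵀ * β * (D : Matrix (Fin 2) (Fin 2) F) = μ • β ∧ ∀ u t,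
        (h : Matrix (Fin 10) (Fin 10) F) *ᵥ P u t = P ((D : Matrix (Fin 2) (Fin 2) F) *ᵥ u) (C *ᵥ t)) :
    False := by
  classical
  have hexp : ∀ u, u = u 0 • (Pi.single 0 1 : Fin 2 → F) + u 1 • (Pi.single 1 1 : Fin 2 → F) := fun u => by
    funext i; fin_cases i <;> simp
  have h10 : β 1 0 = β 0 1 := congrFun (congrFun hβt 0) 1
  set c : F := β 0 1 * β 0 1 - β 0 0 * β 1 1 with hc
  have hdβ : β.det ≠ 0 := ((Matrix.isUnit_iff_isUnit_det _).1 hβu).ne_zero
  have hc0 : c ≠ 0 := fun h0 => hdβ (by rw [Matrix.det_fin_two, h10]; linear_combination -h0)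
  set j : Matrix (Fin 2) (Fin 2) F := !![β 0 1, β 1 1; -(β 0 0), -(β 0 1)] with hj
  have hjj : j * j = c • (1 : Matrix (Fin 2) (Fin 2) F) := by
    ext i l; fin_cases i <;> fin_cases l <;> simp [j, Matrix.mul_apply, Fin.sum_univ_two, c] <;> ring
  set S : Matrix (Fin 2) (Fin 2) F := !![0, 1; -1, 0] with hS
  have hβj : β * j = (β 0 0 * β 1 1 - β 0 1 * β 0 1) • S := by
    ext i l; fin_cases i <;> fin_cases l <;> simp [j, S, Matrix.mul_apply, Fin.sum_univ_two, h10] <;> ring
  have hskew : ∀ u u', (j *ᵥ u) ⬝ᵥ β *ᵥ u' = -(u ⬝ᵥ β *ᵥ (j *ᵥ u')) := fun u u' => by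
    simp [j, Matrix.mulVec, dotProduct, Fin.sum_univ_two, h10]; ring
  -- coordinates
  let Φ : (Fin 5 → F) × (Fin 5 → F) →ₗ[F] (Fin 10 → F) :=
    (P (Pi.single 0 1)).coprod (P (Pi.single 1 1))
  have hΦi : Function.Injective Φ := (injective_iff_map_eq_zero Φ).2 fun x hx => by
    obtain ⟨h0, h1⟩ := hP x.1 x.2 (by simpa [Φ] using hx)
    exact Prod.ext h0 h1
  let e := LinearEquiv.ofBijective Φ ⟨hΦi,
    (LinearMap.injective_iff_surjective_of_finrank_eq_finrank (by simp)).1 hΦi⟩
  let Jl : (Fin 10 → F) →ₗ[F] (Fin 10 → F) :=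
    ((P (j *ᵥ Pi.single 0 1)).coprod (P (j *ᵥ Pi.single 1 1))).comp e.symm.toLinearMap
  set J : Matrix (Fin 10) (Fin 10) F := LinearMap.toMatrix' Jl with hJ
  have hJp : ∀ u t, J *ᵥ P u t = P (j *ᵥ u) t := fun u t => by
    have he : e.symm (P u t) = (u 0 • t, u 1 • t) := by
      rw [LinearEquiv.symm_apply_eq]
      show _ = P (Pi.single 0 1) (u 0 • t) + P (Pi.single 1 1) (u 1 • t)
      conv_lhs => rw [hexp u]
      simp only [map_add, map_smul, LinearMap.add_apply, LinearMap.smul_apply]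
    rw [hJ, ← Matrix.toLin'_apply, Matrix.toLin'_toMatrix']
    show P (j *ᵥ Pi.single 0 1) (e.symm (P u t)).1 + P (j *ᵥ Pi.single 1 1) (e.symm (P u t)).2 = _
    rw [he]
    conv_rhs => rw [hexp u]
    simp only [Matrix.mulVec_add, Matrix.mulVec_smul, map_add, map_smul, LinearMap.add_apply, LinearMap.smul_apply]
  have hspan : ∀ v, ∃ t t', v = P (Pi.single 0 1) t + P (Pi.single 1 1) t' := fun v =>
    ⟨(e.symm v).1, (e.symm v).2, (e.apply_symm_apply v).symm⟩
  have hext : ∀ M M' : Matrix (Fin 10) (Fin 10) F, (∀ u t, M *ᵥ P u t = M' *ᵥ P u t) → M = M' := fun M M' h => by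
    refine Matrix.toLin'.injective (LinearMap.ext fun v => ?_)
    obtain ⟨t, t', rfl⟩ := hspan v
    simp only [Matrix.toLin'_apply, Matrix.mulVec_add, h]
  have hJJ : J * J = c • (1 : Matrix (Fin 10) (Fin 10) F) := hext _ _ fun u t => by
    rw [← Matrix.mulVec_mulVec, hJp, hJp, Matrix.mulVec_mulVec, hjj, Matrix.smul_mulVec, Matrix.one_mulVec,
      Matrix.smul_mulVec, Matrix.one_mulVec, map_smul, LinearMap.smul_apply]
  have hJskew : ∀ v w, polarBilin Q (J *ᵥ v) w = -polarBilin Q v (J *ᵥ w) := fun v w => by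
    obtain ⟨t, t', rfl⟩ := hspan v
    obtain ⟨r, r', rfl⟩ := hspan w
    simp only [Matrix.mulVec_add, hJp, map_add, LinearMap.add_apply, hpol, hskew]
    ring
  -- every element commutes with `J`
  let Ψ : (Fin 2 × Fin 5 → F) →ₗ[F] (Fin 10 → F) :=
    (P (Pi.single 0 1)).comp (LinearMap.funLeft F F fun b => ((0 : Fin 2), b)) +
      (P (Pi.single 1 1)).comp (LinearMap.funLeft F F fun b => ((1 : Fin 2), b))
  have hΨi : Function.Injective Ψ := (injective_iff_map_eq_zero Ψ).2 fun x hx => by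
    obtain ⟨h0, h1⟩ := hP _ _ hx
    funext ⟨i, b⟩
    fin_cases i
    · exact congrFun h0 b
    · exact congrFun h1 b
  let E := LinearEquiv.ofBijective Ψ ⟨hΨi,
    (LinearMap.injective_iff_surjective_of_finrank_eq_finrank (by simp)).1 hΨi⟩
  obtain ⟨a₁, a₂, ha⟩ : ∃ a₁ a₂, β a₁ a₂ ≠ 0 := by
    by_contra hcon
    push Not at hcon
    exact hdβ (by rw [show β = 0 from Matrix.ext hcon]; exact Matrix.det_zero)
  have hcomm : ∀ h ∈ G, (h : Matrix (Fin 10) (Fin 10) F) * J = J * (h : Matrix (Fin 10) (Fin 10) F) := by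
    intro h hh
    obtain ⟨D, μ, C, hD, hhP⟩ := hact h hh
    set Dm : Matrix (Fin 2) (Fin 2) F := (D : Matrix (Fin 2) (Fin 2) F) with hDm
    have hdet : Dm.det ≠ 0 := ((Matrix.isUnit_iff_isUnit_det _).1 D.isUnit).ne_zero
    have hDS : Dmᵀ * S * Dm = Dm.det • S := by
      ext i l; fin_cases i <;> fin_cases l <;>
        simp [S, Matrix.mul_apply, Fin.sum_univ_two, Matrix.det_fin_two] <;> ring
    have hDj : Dm * j = (μ / Dm.det) • (j * Dm) := by
      refine (((Matrix.isUnit_transpose _).2 D.isUnit).mul hβu).mul_left_cancel ?_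
      rw [← mul_assoc, hD, smul_mul_assoc, hβj, smul_smul, mul_smul_comm, mul_assoc Dmᵀ β, ← mul_assoc β j,
        hβj, smul_mul_assoc, mul_smul_comm, ← mul_assoc, hDS, smul_smul, smul_smul]
      congr 1
      field_simp
    have hcomm₀ : (h : Matrix (Fin 10) (Fin 10) F) * J = ((μ / Dm.det) • J) * (h : Matrix (Fin 10) (Fin 10) F) :=
      hext _ _ fun u t => by
        rw [← Matrix.mulVec_mulVec, hJp, hhP, ← Matrix.mulVec_mulVec, hhP, Matrix.smul_mulVec, hJp,
          Matrix.mulVec_mulVec, hDj, Matrix.smul_mulVec, map_smul, LinearMap.smul_apply, Matrix.mulVec_mulVec]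
    have hsq : (Dm.det - μ) * (Dm.det + μ) = 0 := by
      have h1 := congrArg Matrix.det hD
      rw [Matrix.det_mul, Matrix.det_mul, Matrix.det_transpose, Matrix.det_smul, Fintype.card_fin] at h1
      exact mul_right_cancel₀ hdβ (by linear_combination h1)
    rcases mul_eq_zero.1 hsq with h1 | h1
    · rw [hcomm₀, show μ = Dm.det by linear_combination -h1, div_self hdet, one_smul]
    exfalso
    have hdD : Dm.det = -μ := by linear_combination h1
    have hCγ : μ • (Cᵀ * γ * C) = γ := ext_dot fun t t' => by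
      have h3 := MaxSub.Orth.iso_polar (MaxSub.Orth.omegaGL_le_isometry (hG hh))
        (P (Pi.single a₁ 1) t) (P (Pi.single a₂ 1) t')
      rw [hhP, hhP, hpol, hpol] at h3
      have h4 : (Dm *ᵥ Pi.single a₁ 1) ⬝ᵥ β *ᵥ (Dm *ᵥ Pi.single a₂ 1) = μ * β a₁ a₂ := by
        rw [← Matrix.vecMul_transpose, ← Matrix.dotProduct_mulVec, Matrix.mulVec_mulVec, Matrix.mulVec_mulVec,
          hD, Matrix.smul_mulVec, dotProduct_smul, smul_eq_mul]
        simp
      have h5 : (Pi.single a₁ (1 : F) : Fin 2 → F) ⬝ᵥ β *ᵥ Pi.single a₂ 1 = β a₁ a₂ := by simp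
      have h6 : (C *ᵥ t) ⬝ᵥ γ *ᵥ (C *ᵥ t') = t ⬝ᵥ (Cᵀ * γ * C) *ᵥ t' := by
        rw [← Matrix.mulVec_mulVec, ← Matrix.mulVec_mulVec, Matrix.dotProduct_mulVec t Cᵀ, Matrix.vecMul_transpose]
      rw [h4, h5, h6] at h3
      rw [Matrix.smul_mulVec, dotProduct_smul, smul_eq_mul]
      exact mul_left_cancel₀ ha (by linear_combination h3)
    have hμC : μ ^ 5 * C.det ^ 2 = 1 := by
      have h3 := congrArg Matrix.det hCγ
      rw [Matrix.det_smul, Matrix.det_mul, Matrix.det_mul, Matrix.det_transpose, Fintype.card_fin] at h3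
      exact mul_right_cancel₀ ((Matrix.isUnit_iff_isUnit_det _).1 hγu).ne_zero (by linear_combination h3)
    have hconj : Matrix.toLin' (h : Matrix (Fin 10) (Fin 10) F) =
        E.toLinearMap.comp ((Matrix.toLin' (Dm ⊗ₖ C)).comp E.symm.toLinearMap) := by
      have hk : (Matrix.toLin' (h : Matrix (Fin 10) (Fin 10) F)).comp E.toLinearMap =
          E.toLinearMap.comp (Matrix.toLin' (Dm ⊗ₖ C)) := by
        refine (Pi.basisFun F (Fin 2 × Fin 5)).ext fun ⟨i, b⟩ => ?_
        simp only [Pi.basisFun_apply, LinearMap.comp_apply, LinearEquiv.coe_coe, Matrix.toLin'_apply,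
          Matrix.mulVec_single_one]
        show (h : Matrix (Fin 10) (Fin 10) F) *ᵥ Ψ _ = Ψ _
        have e0 : Ψ (Pi.single (i, b) 1) = P (Pi.single i 1) (Pi.single b 1) := by
          fin_cases i <;>
            simp [Ψ, LinearMap.funLeft, Function.comp_def, Pi.single_apply, Prod.ext_iff,
              show (fun x => if x = b then (1 : F) else 0) = Pi.single b 1 from funext fun x => by simp [Pi.single_apply],
              show (fun _ : Fin 5 => (0 : F)) = 0 from rfl]
        have e1 : Ψ ((Dm ⊗ₖ C).col (i, b)) = P (Dm.col i) (C.col b) := by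
          conv_rhs => rw [hexp (Dm.col i)]
          simp only [map_add, map_smul, LinearMap.add_apply, LinearMap.smul_apply, Ψ, LinearMap.comp_apply]
          rw [← map_smul, ← map_smul]
          rfl
        rw [e0, hhP, e1, Matrix.mulVec_single_one, Matrix.mulVec_single_one]
      rw [← LinearMap.comp_assoc, ← hk, LinearMap.comp_assoc, LinearEquiv.comp_coe, LinearEquiv.symm_trans_self,
        LinearEquiv.refl_toLinearMap, LinearMap.comp_id]
    have hd1 : (h : Matrix (Fin 10) (Fin 10) F).det = Dm.det ^ 5 * C.det ^ 2 := by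
      rw [← LinearMap.det_toLin', hconj, LinearMap.det_conj, LinearMap.det_toLin',
        Matrix.det_kronecker, Fintype.card_fin, Fintype.card_fin]
    rw [PrimeDim.OrthProper.det_omega (hG hh), hdD] at hd1
    exact h2 (by linear_combination hd1 - hμC)
  by_cases hsq : IsSquare c
  · obtain ⟨s, hs⟩ := hsq
    have hs0 : s ≠ 0 := fun h => hc0 (by rw [hs, h, mul_zero])
    have hJns : ∀ r : F, J ≠ r • 1 := by
      intro r hr
      refine hdβ ?_
      have hj0 : ∀ u : Fin 2 → F, j *ᵥ u = r • u := fun u => by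
        have key : ∀ t, P (j *ᵥ u - r • u) t = 0 := fun t => by
          rw [map_sub, map_smul, LinearMap.sub_apply, LinearMap.smul_apply, ← hJp, hr, Matrix.smul_mulVec,
            Matrix.one_mulVec, sub_self]
        have h0 := key (Pi.single 0 1)
        rw [hexp (j *ᵥ u - r • u)] at h0
        simp only [map_add, map_smul, LinearMap.add_apply, LinearMap.smul_apply] at h0
        rw [← map_smul, ← map_smul] at h0
        obtain ⟨e0, e1⟩ := hP _ _ h0
        funext i
        fin_cases i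
        · exact sub_eq_zero.1 (by simpa using congrFun e0 0)
        · exact sub_eq_zero.1 (by simpa using congrFun e1 0)
      have a0 := congrFun (hj0 (Pi.single 0 1)) 1
      have a1 := congrFun (hj0 (Pi.single 1 1)) 0
      have a2 := congrFun (hj0 (Pi.single 0 1)) 0
      have a3 := congrFun (hj0 (Pi.single 1 1)) 1
      simp [j] at a0 a1 a2 a3
      have hb : β 0 1 = 0 := (mul_eq_zero.1 (show (2 : F) * β 0 1 = 0 by linear_combination a2 - a3)).resolve_left h2
      rw [Matrix.det_fin_two, h10, a0, a1, hb]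
      ring
    rcases SLTwoPrime.eq_bot_or_top hirr (LinearMap.ker (Matrix.toLin' (J - s • 1))) (fun h hh v hv => by
      rw [LinearMap.mem_ker, Matrix.toLin'_apply] at hv ⊢
      rw [Matrix.mulVec_mulVec, show (J - s • 1) * (h : Matrix (Fin 10) (Fin 10) F) =
        (h : Matrix (Fin 10) (Fin 10) F) * (J - s • 1) by
          simp only [sub_mul, mul_sub, smul_mul_assoc, mul_smul_comm, one_mul, mul_one, hcomm h hh],
        ← Matrix.mulVec_mulVec, hv, Matrix.mulVec_zero]) with hk | hk
    · refine hJns (-s) ?_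
      have h0 : (J - s • 1) * (J + s • 1) = 0 := by
        simp only [sub_mul, mul_add, smul_mul_assoc, mul_smul_comm, one_mul, mul_one, hJJ, hs]
        module
      have h1 : J + s • 1 = 0 := Matrix.toLin'.injective (LinearMap.ext fun v => by
        have hmem : Matrix.toLin' (J + s • 1) v ∈ LinearMap.ker (Matrix.toLin' (J - s • 1)) := by
          rw [LinearMap.mem_ker, Matrix.toLin'_apply, Matrix.toLin'_apply, Matrix.mulVec_mulVec, h0, Matrix.zero_mulVec]
        rw [hk, Submodule.mem_bot] at hmem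
        rw [hmem, map_zero, LinearMap.zero_apply])
      rw [eq_neg_of_add_eq_zero_left h1, neg_smul]
    · refine hJns s ?_
      exact sub_eq_zero.1 (Matrix.toLin'.injective (by rw [map_zero]; exact LinearMap.ker_eq_top.1 hk))
  · refine no_unitary hQ J (a := 0) (b := -c) (fun x y h => ?_) ?_ (fun x y v => ?_) fun u v => ?_
    · by_cases hy : y = 0
      · subst hy
        exact ⟨by simpa using h, rfl⟩
      · exfalso
        refine hsq ⟨x / y, ?_⟩
        field_simp
        linear_combination -h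
    · rw [hJJ]; simp
    · have hvJ : polarBilin Q v (J *ᵥ v) = 0 := by
        have h := hJskew v v
        rw [quad_polar_comm Q (J *ᵥ v) v] at h
        exact (mul_eq_zero.1 (show (2 : F) * polarBilin Q v (J *ᵥ v) = 0 by linear_combination h)).resolve_left h2
      have hJv : Q (J *ᵥ v) = -c * Q v := by
        have h := hJskew v (J *ᵥ v)
        rw [quad_polar_self, Matrix.mulVec_mulVec, hJJ, Matrix.smul_mulVec, Matrix.one_mulVec, map_smul,
          quad_polar_self, smul_eq_mul] at h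
        exact mul_left_cancel₀ h2 (by linear_combination h)
      rw [quad_add, quad_smul, quad_smul, map_smul, map_smul, LinearMap.smul_apply, hvJ, hJv]
      simp only [smul_eq_mul, mul_zero, zero_mul, add_zero]
      ring
    · rw [hJskew, zero_smul, zero_sub, map_neg]

/-- A tensor decomposable normal subgroup gives one of the cases; there is none. -/
theorem tensor_cases (hQ : Plus Q) {G : Subgroup (GL (Fin 10) F)} (hH : IsMaximalIn (omegaGL ⇑Q) G)
    (hirrG : ActsIrreducibly (matrixSet G)) {N : Subgroup (GL (Fin 10) F)} (hNG : N ≤ G)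
    (hnorm : ∀ g ∈ G, ∀ x ∈ N, g * x * g⁻¹ ∈ N) {d k : ℕ} (hdk : d * k = 10) (hd : 1 < d) (hk : 1 < k)
    (A : N → Matrix (Fin d) (Fin d) F)
    (hirr : ∀ U : Submodule F (Fin d → F), (∀ n, ∀ u ∈ U, A n *ᵥ u ∈ U) → U = ⊥ ∨ U = ⊤)
    (hscal : ∀ X : Matrix (Fin d) (Fin d) F, (∀ n, X * A n = A n * X) → ∃ c : F, X = c • 1)
    (φ : Fin k → (Fin d → F) →ₗ[F] (Fin 10 → F))
    (hequiv : ∀ j (n : N) x, ((n : GL (Fin 10) F) : Matrix (Fin 10) (Fin 10) F) *ᵥ φ j x = φ j (A n *ᵥ x))
    (hbij : Function.Bijective (MaxTensor.assemble φ)) : Cases Q G := by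
  have hG : G ≤ Cfsg.isometryGroup F ⇑Q := hH.1.le.trans MaxSub.Orth.omegaGL_le_isometry
  classical
  set B := polarBilin Q with hB
  have hBsymm : ∀ v w, B v w = B w v := fun v w => by
    simp only [hB, QuadraticMap.polarBilin_apply_apply, QuadraticMap.polar_comm]
  have hφinj : ∀ j, Function.Injective (φ j) := fun j x y hxy => by
    have h := hbij.1 (a₁ := Pi.single j x) (a₂ := Pi.single j y) (by
      have e : ∀ v, assemble φ (Pi.single j v) = φ j v := fun v => by
        show ∑ l, φ l (Pi.single (M := fun _ => Fin d → F) j v l) = φ j v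
        rw [Finset.sum_eq_single j (fun l _ hl => by rw [Pi.single_eq_of_ne hl, map_zero])
          (fun hn => absurd (Finset.mem_univ _) hn), Pi.single_eq_same]
      rw [e, e, hxy])
    simpa using congrFun h j
  have hAu : ∀ n : N, IsUnit (A n) := fun n => by
    rw [← Matrix.mulVec_injective_iff_isUnit]
    intro x y hxy
    apply hφinj ⟨0, by omega⟩
    apply Matrix.mulVec_injective_iff_isUnit.2 (n : GL (Fin 10) F).isUnit
    show ((n : GL (Fin 10) F) : Matrix (Fin 10) (Fin 10) F) *ᵥ _ = ((n : GL (Fin 10) F) : Matrix (Fin 10) (Fin 10) F) *ᵥ _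
    rw [hequiv, hequiv]
    exact congrArg _ hxy
  set M : Fin k → Fin k → Matrix (Fin d) (Fin d) F := fun i j =>
    LinearMap.BilinForm.toMatrix' (B.compl₁₂ (φ i) (φ j)) with hMdef
  have hM : ∀ i j x y, B (φ i x) (φ j y) = x ⬝ᵥ M i j *ᵥ y := fun i j x y => by
    rw [← Matrix.toBilin'_apply', hMdef, Matrix.toBilin'_toMatrix']
    rfl
  have hinv : ∀ i j n, (A n)ᵀ * M i j * A n = M i j := fun i j n => ext_dot fun x y => by
    rw [← hM, ← Matrix.mulVec_mulVec, ← Matrix.mulVec_mulVec, Matrix.dotProduct_mulVec, Matrix.vecMul_transpose,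
      ← hM, ← hequiv, ← hequiv]
    exact MaxSub.Orth.iso_polar (hG (hNG n.2)) _ _
  have hflat : ∀ v w : Fin k → Fin d → F, B (assemble φ v) (assemble φ w) = ∑ i, ∑ j, v i ⬝ᵥ M i j *ᵥ w j := by
    intro v w
    show B (∑ i, φ i (v i)) (∑ j, φ j (w j)) = _
    rw [LinearMap.map_sum₂]
    refine Finset.sum_congr rfl fun i _ => ?_
    rw [map_sum]
    exact Finset.sum_congr rfl fun j _ => hM i j _ _
  obtain ⟨i₀, j₀, hne⟩ : ∃ i j, M i j ≠ 0 := by
    by_contra hcon
    push Not at hcon
    refine one_ne_zero (α := F) ?_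
    have h := hQ.nd.1 (Pi.single 0 1) fun x => by
      obtain ⟨v, hv⟩ := hbij.2 x
      obtain ⟨w, hw⟩ := hbij.2 (Pi.single (0 : Fin 10) (1 : F))
      rw [← hv, ← hw, ← hB, hflat]
      simp [hcon]
    simpa using congrFun h 0
  set g := M i₀ j₀ with hg
  have hgu : IsUnit g := by
    rw [← Matrix.mulVec_injective_iff_isUnit]
    have hker : LinearMap.ker (Matrix.toLin' g) = ⊥ := by
      refine (hirr _ fun n u hu => ?_).resolve_right fun htop => hne ?_
      · rw [LinearMap.mem_ker, Matrix.toLin'_apply] at hu ⊢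
        refine Matrix.mulVec_injective_iff_isUnit.2 ((Matrix.isUnit_transpose _).2 (hAu n)) ?_
        rw [Matrix.mulVec_zero, Matrix.mulVec_mulVec, Matrix.mulVec_mulVec, hinv, hu]
      · refine Matrix.toLin'.injective ?_
        rw [map_zero]
        exact LinearMap.ker_eq_top.1 htop
    intro u w huw
    exact LinearMap.ker_eq_bot.1 hker (by rwa [Matrix.toLin'_apply, Matrix.toLin'_apply])
  obtain ⟨U, hU⟩ := hgu
  have hmult : ∀ X : Matrix (Fin d) (Fin d) F, (∀ n, (A n)ᵀ * X * A n = X) → ∃ c : F, X = c • g := by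
    intro X hX
    obtain ⟨c, hc⟩ := hscal ((↑U⁻¹ : Matrix (Fin d) (Fin d) F) * X) fun n => by
      set Mx := (↑U⁻¹ : Matrix (Fin d) (Fin d) F) * X with hMx
      have hgM : g * Mx = X := by rw [hMx, ← mul_assoc, ← hU, Units.mul_inv, one_mul]
      refine (hU ▸ U.isUnit).mul_left_cancel (((Matrix.isUnit_transpose _).2 (hAu n)).mul_left_cancel ?_)
      calc (A n)ᵀ * (g * (Mx * A n)) = (A n)ᵀ * (g * Mx) * A n := by simp only [mul_assoc]
        _ = X := by rw [hgM, hX n]
        _ = (A n)ᵀ * g * A n * Mx := by rw [hinv i₀ j₀ n, hgM]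
        _ = (A n)ᵀ * (g * (A n * Mx)) := by simp only [mul_assoc]
    refine ⟨c, ?_⟩
    have h := congrArg (fun Y => (U : Matrix (Fin d) (Fin d) F) * Y) hc
    simp only [← mul_assoc, Units.mul_inv, one_mul, Matrix.mul_smul, mul_one] at h
    rw [h, hU]
  choose β hβ using fun i j => hmult _ (hinv i j)
  set K : Matrix (Fin k) (Fin k) F := Matrix.of β with hK
  -- pure tensors
  let T : (Fin k → F) →ₗ[F] (Fin d → F) →ₗ[F] (Fin 10 → F) :=
    LinearMap.mk₂ F (fun c x => assemble φ fun j => c j • x)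
      (fun c c' x => by rw [← map_add]; congr 1; funext j; simp [add_smul])
      (fun a c x => by rw [← map_smul]; congr 1; funext j; simp [smul_smul])
      (fun c x x' => by rw [← map_add]; congr 1; funext j; simp [smul_add])
      (fun a c x => by rw [← map_smul]; congr 1; funext j; simp [smul_smul, mul_comm])
  have hT : ∀ c c' x x', B (T c x) (T c' x') = (c ⬝ᵥ K *ᵥ c') * (x ⬝ᵥ g *ᵥ x') := fun c c' x x' => by
    show B (assemble φ fun j => c j • x) (assemble φ fun j => c' j • x') = _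
    rw [hflat]
    have e : ∀ i j, (c i • x) ⬝ᵥ M i j *ᵥ (c' j • x') = c i * (β i j * c' j) * (x ⬝ᵥ g *ᵥ x') := fun i j => by
      rw [hβ, Matrix.smul_mulVec, Matrix.mulVec_smul, smul_dotProduct, dotProduct_smul, dotProduct_smul, smul_eq_mul,
        smul_eq_mul, smul_eq_mul]
      ring
    simp only [e, ← Finset.sum_mul, ← Finset.mul_sum]
    rfl
  have hT0 : ∀ {c : Fin k → F} {x : Fin d → F}, T c x = 0 → ∀ j, c j • x = 0 := fun {c x} h j =>
    congrFun ((injective_iff_map_eq_zero (assemble φ)).1 hbij.1 _ h) j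
  haveI : Nonempty (Fin d) := ⟨⟨0, by omega⟩⟩
  obtain ⟨ε, hgt⟩ := hmult gᵀ fun n => by
    rw [← Matrix.transpose_transpose (A n), ← Matrix.transpose_mul, ← Matrix.transpose_mul, Matrix.transpose_transpose,
      ← mul_assoc, hinv]
  obtain ⟨a, b, hab⟩ : ∃ a b, g a b ≠ 0 := by
    by_contra hcon
    push Not at hcon
    exact hne (Matrix.ext fun a b => hcon a b)
  have hεε : ε * ε = 1 := by
    have h1 := congrFun (congrFun hgt b) a
    have h2 := congrFun (congrFun hgt a) b
    simp only [Matrix.transpose_apply, Matrix.smul_apply, smul_eq_mul] at h1 h2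
    exact mul_right_cancel₀ hab (by linear_combination -h1 - ε * h2)
  have hKt : Kᵀ = ε • K := by
    ext i j
    have h1 := hT (Pi.single j 1) (Pi.single i 1) (Pi.single a 1) (Pi.single b 1)
    have h2 := hT (Pi.single i 1) (Pi.single j 1) (Pi.single b 1) (Pi.single a 1)
    rw [hBsymm, h2] at h1
    have h3 := congrFun (congrFun hgt a) b
    simp only [Matrix.transpose_apply, Matrix.smul_apply, smul_eq_mul] at h3
    simp only [Matrix.mulVec_single_one, single_dotProduct, one_mul, Matrix.col_apply] at h1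
    simp only [Matrix.transpose_apply, Matrix.smul_apply, smul_eq_mul]
    rw [h3] at h1
    exact mul_right_cancel₀ hab (by linear_combination -h1)
  have hcases : (d = 2 ∧ k = 5) ∨ (d = 5 ∧ k = 2) := by
    have h4 : d ≤ 5 := by
      by_contra hcon
      have : 6 * 2 ≤ d * k := Nat.mul_le_mul (by omega) (by omega)
      omega
    interval_cases d <;> omega
  have hkron : ∀ h ∈ G, ∃ (C : GL (Fin d) F) (D : GL (Fin k) F), ∀ v : Fin k → Fin d → F,
      (h : Matrix (Fin 10) (Fin 10) F) *ᵥ assemble φ v =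
        assemble φ fun a => ∑ b, (D : Matrix (Fin k) (Fin k) F) a b • ((C : Matrix (Fin d) (Fin d) F) *ᵥ v b) :=
    fun h hh => exists_kronecker (by omega) (by omega) A hirr hscal φ hequiv hbij h fun x hx => hnorm h hh x hx
  have hact : ∀ h ∈ G, ∃ (C : GL (Fin d) F) (D : GL (Fin k) F), (∀ v : Fin k → Fin d → F,
      (h : Matrix (Fin 10) (Fin 10) F) *ᵥ assemble φ v =
        assemble φ fun a => ∑ b, (D : Matrix (Fin k) (Fin k) F) a b • ((C : Matrix (Fin d) (Fin d) F) *ᵥ v b)) ∧
      ∀ c x, (h : Matrix (Fin 10) (Fin 10) F) *ᵥ T c x =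
        T ((D : Matrix (Fin k) (Fin k) F) *ᵥ c) ((C : Matrix (Fin d) (Fin d) F) *ᵥ x) := fun h hh => by
    obtain ⟨C, D, hCD⟩ := hkron h hh
    refine ⟨C, D, hCD, fun c x => ?_⟩
    show _ *ᵥ assemble φ (fun j => c j • x) = _
    rw [hCD]
    show _ = assemble φ _
    congr 1
    funext j
    simp only [Matrix.mulVec_smul, smul_smul, ← Finset.sum_smul]
    rfl
  have hKu : IsUnit K := by
    rw [← Matrix.mulVec_injective_iff_isUnit]
    intro c c' hcc
    have hz : K *ᵥ (c - c') = 0 := by rw [Matrix.mulVec_sub, hcc, sub_self]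
    have h0 : T (c - c') (Pi.single a 1) = 0 := by
      refine hQ.nd.1 _ fun v => ?_
      obtain ⟨u, rfl⟩ := hbij.2 v
      rw [← hB, hBsymm]
      show B (assemble φ u) (assemble φ fun j => (c - c') j • Pi.single a 1) = 0
      rw [hflat]
      refine Finset.sum_eq_zero fun i _ => ?_
      simp only [hβ, Matrix.smul_mulVec, Matrix.mulVec_smul, dotProduct_smul, smul_eq_mul, ← mul_assoc, ← Finset.sum_mul]
      have := congrFun hz i
      simp only [Matrix.mulVec, dotProduct, hK, Matrix.of_apply, Pi.zero_apply] at this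
      rw [show ∑ x, (c - c') x * β i x = 0 by rw [← this]; exact Finset.sum_congr rfl fun x _ => mul_comm _ _, zero_mul]
    funext j
    exact sub_eq_zero.1 (by simpa using congrFun (hT0 h0 j) a)
  exfalso
  by_cases h2 : (2 : F) = 0
  swap
  · have hsim : ∀ h ∈ G, ∀ (C : Matrix (Fin d) (Fin d) F) (D : Matrix (Fin k) (Fin k) F),
        (∀ c x, (h : Matrix (Fin 10) (Fin 10) F) *ᵥ T c x = T (D *ᵥ c) (C *ᵥ x)) →
        ∀ c c' x x', (c ⬝ᵥ (Dᵀ * K * D) *ᵥ c') * (x ⬝ᵥ (Cᵀ * g * C) *ᵥ x') =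
          (c ⬝ᵥ K *ᵥ c') * (x ⬝ᵥ g *ᵥ x') := fun h hh C D hpure c c' x x' => by
      rw [← hT c c' x x', hB, ← MaxSub.Orth.iso_polar (hG hh) (T c x) (T c' x'), ← hB, hpure, hpure, hT]
      simp only [← Matrix.mulVec_mulVec, Matrix.dotProduct_mulVec _ Dᵀ, Matrix.dotProduct_mulVec _ Cᵀ,
        Matrix.vecMul_transpose]
    rcases hcases with ⟨rfl, rfl⟩ | ⟨rfl, rfl⟩
    · have hε1 : ε = 1 := by
        refine ((mul_self_eq_one_iff.1 hεε).resolve_right fun hm => ?_)
        have h := congrArg Matrix.det hKt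
        rw [Matrix.det_transpose, Matrix.det_smul, hm, Fintype.card_fin] at h
        exact ((Matrix.isUnit_iff_isUnit_det _).1 hKu).ne_zero
          ((mul_eq_zero.1 (show (2 : F) * K.det = 0 by linear_combination h)).resolve_left h2)
      rw [hε1, one_smul] at hgt
      obtain ⟨p, r, hpr⟩ : ∃ p r, K p r ≠ 0 := by
        by_contra hcon
        push Not at hcon
        exact ((Matrix.isUnit_iff_isUnit_det _).1 hKu).ne_zero (by
          rw [show K = 0 from Matrix.ext hcon, Matrix.det_zero])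
      refine false_of_product hQ hirrG hH.1.le h2 T.flip (hU ▸ U.isUnit) hKu hgt (γ := K) (fun u u' t t' => ?_)
        (fun t t' h => ?_) fun h hh => ?_
      · rw [LinearMap.flip_apply, LinearMap.flip_apply, hT, mul_comm]
      · have h' := (injective_iff_map_eq_zero (assemble φ)).1 hbij.1 _ ((map_add (assemble φ) (fun j => t j • (Pi.single 0 1 : Fin 2 → F))
          (fun j => t' j • (Pi.single 1 1 : Fin 2 → F))).trans h)
        refine ⟨funext fun j => ?_, funext fun j => ?_⟩
        · simpa using congrFun (congrFun h' j) 0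
        · simpa using congrFun (congrFun h' j) 1
      · obtain ⟨C, D, -, hpure⟩ := hact h hh
        set Dm : Matrix (Fin 5) (Fin 5) F := (D : Matrix (Fin 5) (Fin 5) F)
        set Cm : Matrix (Fin 2) (Fin 2) F := (C : Matrix (Fin 2) (Fin 2) F)
        have hs := hsim h hh Cm Dm hpure (Pi.single p 1) (Pi.single r 1)
        simp only [Matrix.mulVec_single_one, single_dotProduct, one_mul, Matrix.col_apply] at hs
        have hne' : (Dmᵀ * K * Dm) p r ≠ 0 := fun h0 => by
          have := hs (Pi.single a 1) (Pi.single b 1)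
          simp [h0, hpr, hab] at this
        refine ⟨C, K p r / (Dmᵀ * K * Dm) p r, Dm, ext_dot fun x x' => ?_, fun u t => hpure t u⟩
        rw [Matrix.smul_mulVec, dotProduct_smul, smul_eq_mul]
        field_simp
        linear_combination hs x x'
    · have hε1 : ε = 1 := by
        refine ((mul_self_eq_one_iff.1 hεε).resolve_right fun hm => ?_)
        have h := congrArg Matrix.det hgt
        rw [Matrix.det_transpose, Matrix.det_smul, hm, Fintype.card_fin] at h
        exact ((Matrix.isUnit_iff_isUnit_det _).1 (hU ▸ U.isUnit : IsUnit g)).ne_zero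
          ((mul_eq_zero.1 (show (2 : F) * g.det = 0 by linear_combination h)).resolve_left h2)
      rw [hε1, one_smul] at hKt
      refine false_of_product hQ hirrG hH.1.le h2 T hKu (hU ▸ U.isUnit) hKt hT (fun t t' h => ?_) fun h hh => ?_
      · have h' := (injective_iff_map_eq_zero (assemble φ)).1 hbij.1 _ ((map_add (assemble φ) (fun j => (Pi.single 0 1 : Fin 2 → F) j • t)
          (fun j => (Pi.single 1 1 : Fin 2 → F) j • t')).trans h)
        exact ⟨by simpa using congrFun h' 0, by simpa using congrFun h' 1⟩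
      · obtain ⟨C, D, -, hpure⟩ := hact h hh
        set Cm : Matrix (Fin 5) (Fin 5) F := (C : Matrix (Fin 5) (Fin 5) F)
        set Dm : Matrix (Fin 2) (Fin 2) F := (D : Matrix (Fin 2) (Fin 2) F)
        have hs : ∀ c c', (c ⬝ᵥ (Dmᵀ * K * Dm) *ᵥ c') * (Cmᵀ * g * Cm) a b = (c ⬝ᵥ K *ᵥ c') * g a b := fun c c' => by
          have := hsim h hh Cm Dm hpure c c' (Pi.single a 1) (Pi.single b 1)
          simpa only [Matrix.mulVec_single_one, single_dotProduct, one_mul, Matrix.col_apply] using this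
        have hne' : (Cmᵀ * g * Cm) a b ≠ 0 := fun h0 => by
          obtain ⟨p, r, hpr⟩ : ∃ p r, K p r ≠ 0 := by
            by_contra hcon
            push Not at hcon
            exact ((Matrix.isUnit_iff_isUnit_det _).1 hKu).ne_zero (by
              rw [show K = 0 from Matrix.ext hcon, Matrix.det_zero])
          have := hs (Pi.single p 1) (Pi.single r 1)
          simp [h0, hpr, hab] at this
        refine ⟨D, g a b / (Cmᵀ * g * Cm) a b, Cm, ext_dot fun x x' => ?_, hpure⟩
        rw [Matrix.smul_mulVec, dotProduct_smul, smul_eq_mul]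
        field_simp
        linear_combination hs x x'
  -- characteristic two
  have hε1 : ε = 1 := by
    rcases mul_self_eq_one_iff.1 hεε with h | h
    · exact h
    · rw [h]; linear_combination -h2
  subst hε1
  rw [one_smul] at hgt hKt
  have halt : ∀ x : Fin d → F, x ⬝ᵥ g *ᵥ x = 0 := fun x => alt_of_symm h2 hd A hirr hgt (fun n => hinv i₀ j₀ n) x
  have hKsym : ∀ c c', c ⬝ᵥ K *ᵥ c' = c' ⬝ᵥ K *ᵥ c := fun c c' => by
    rw [Matrix.dotProduct_mulVec, dotProduct_comm, ← Matrix.mulVec_transpose, hKt]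
  have hKadd : ∀ c c', (c + c') ⬝ᵥ K *ᵥ (c + c') = c ⬝ᵥ K *ᵥ c + c' ⬝ᵥ K *ᵥ c' := fun c c' => by
    simp only [Matrix.mulVec_add, add_dotProduct, dotProduct_add]
    rw [hKsym c' c]
    linear_combination (c ⬝ᵥ K *ᵥ c') * h2
  have hcardlt : ∀ {m : ℕ}, 1 < m → ∀ f : (Fin m → F) → F, ¬ Function.Injective f := fun {m} hm f hf => by
    have hcard := Fintype.card_le_of_injective f hf
    rw [Fintype.card_fun, Fintype.card_fin] at hcard
    have : Fintype.card F ^ 1 < Fintype.card F ^ m := Nat.pow_lt_pow_right Fintype.one_lt_card hm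
    rw [pow_one] at this
    omega
  have hKalt : ∀ c : Fin k → F, c ⬝ᵥ K *ᵥ c = 0 := by
    let W : Submodule F (Fin k → F) :=
      { carrier := {c | c ⬝ᵥ K *ᵥ c = 0}
        add_mem' := fun {c c'} (hc : c ⬝ᵥ K *ᵥ c = 0) (hc' : c' ⬝ᵥ K *ᵥ c' = 0) =>
          show (c + c') ⬝ᵥ K *ᵥ (c + c') = 0 by rw [hKadd, hc, hc', add_zero]
        zero_mem' := show (0 : Fin k → F) ⬝ᵥ K *ᵥ 0 = 0 by simp
        smul_mem' := fun a c (hc : c ⬝ᵥ K *ᵥ c = 0) => show (a • c) ⬝ᵥ K *ᵥ (a • c) = 0 by
          simp [Matrix.mulVec_smul, hc] }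
    let S : Submodule F (Fin k → Fin d → F) :=
      { carrier := {v | ∀ i, (fun j => v j i) ∈ W}
        add_mem' := fun hv hw i => W.add_mem (hv i) (hw i)
        zero_mem' := fun i => W.zero_mem
        smul_mem' := fun a v hv i => W.smul_mem a (hv i) }
    obtain ⟨i₁⟩ := ‹Nonempty (Fin d)›
    obtain ⟨x₀, y₀, hxy₀⟩ : ∃ x y, x ⬝ᵥ g *ᵥ y ≠ 0 := ⟨Pi.single a 1, Pi.single b 1, by simpa using hab⟩
    intro c
    rcases SLTwoPrime.eq_bot_or_top hirrG (S.map (assemble φ)) (fun h hh v hv => by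
      obtain ⟨v, hvS, rfl⟩ := hv
      obtain ⟨C, D, hCD, hpure⟩ := hact h hh
      refine ⟨_, fun i => ?_, (hCD v).symm⟩
      have hD : ∀ w ∈ W, (D : Matrix (Fin k) (Fin k) F) *ᵥ w ∈ W := fun w (hw : w ⬝ᵥ K *ᵥ w = 0) => by
        show ((D : Matrix (Fin k) (Fin k) F) *ᵥ w) ⬝ᵥ K *ᵥ ((D : Matrix (Fin k) (Fin k) F) *ᵥ w) = 0
        have h1 := MaxSub.Orth.iso_polar (hG hh) (T w x₀) (T w y₀)
        rw [← hB, hpure, hpure, hT, hT, hw, zero_mul] at h1
        refine (mul_eq_zero.1 h1).resolve_right fun h0 => ?_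
        obtain ⟨w₁, w₂, hw12⟩ : ∃ w₁ w₂, w₁ ⬝ᵥ K *ᵥ w₂ ≠ 0 := by
          by_contra hcon
          push Not at hcon
          have hK0 : K = 0 := ext_dot fun p q => by simp [hcon]
          exact hne (by rw [hg, hβ, show β i₀ j₀ = 0 from congrFun (congrFun hK0 i₀) j₀, zero_smul])
        have h3 := MaxSub.Orth.iso_polar (hG hh) (T w₁ x₀) (T w₂ y₀)
        rw [← hB, hpure, hpure, hT, hT, h0, mul_zero] at h3
        exact mul_ne_zero hw12 hxy₀ h3.symm
      have := hD _ (W.sum_mem (t := Finset.univ) (f := fun l => (C : Matrix (Fin d) (Fin d) F) i l • fun j => v j l)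
        fun l _ => W.smul_mem _ (hvS l))
      convert this using 1
      funext j
      simp [Matrix.mulVec, dotProduct, Finset.sum_apply]) with hS | hS
    · exfalso
      refine hcardlt hk (fun c : Fin k → F => c ⬝ᵥ K *ᵥ c) fun p q hpq => ?_
      have hm : p - q ∈ W := by
        show (p - q) ⬝ᵥ K *ᵥ (p - q) = 0
        have := hKadd (p - q) q
        rw [sub_add_cancel] at this
        simp only at hpq
        linear_combination hpq - this
      have hmem : T (p - q) (Pi.single i₁ 1) ∈ S.map (assemble φ) := by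
        refine ⟨_, fun i => ?_, rfl⟩
        have := W.smul_mem ((Pi.single i₁ (1 : F) : Fin d → F) i) hm
        convert this using 1
        funext j
        simp [mul_comm]
      rw [hS, Submodule.mem_bot] at hmem
      funext j
      exact sub_eq_zero.1 (by simpa using congrFun (hT0 hmem j) i₁)
    · obtain ⟨v, hv, hvc⟩ := (hS ▸ Submodule.mem_top : T c (Pi.single i₁ 1) ∈ S.map (assemble φ))
      have := hv i₁
      rw [show v = fun j => c j • Pi.single i₁ 1 from hbij.1 hvc] at this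
      have h' : (fun j => c j) ∈ W := by convert this using 1; funext j; simp
      exact h'
  rcases hcases with ⟨rfl, rfl⟩ | ⟨rfl, rfl⟩
  swap
  · exact ((Matrix.isUnit_iff_isUnit_det _).1 (hU ▸ U.isUnit : IsUnit g)).ne_zero
      (PrimeDim.FormDescent.det_alt_char_two h2 (by decide) g hgt fun i => by simpa using halt (Pi.single i 1))
  exact ((Matrix.isUnit_iff_isUnit_det _).1 hKu).ne_zero
    (PrimeDim.FormDescent.det_alt_char_two h2 (by decide) K hKt fun i => by simpa using hKalt (Pi.single i 1))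

end Cfsg.Agent.Lib.PlusTen
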